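import Cfsg.Agent.Mrg.Omega.NO3S.MidB.Mod
import Mathlib.Tactic.Abel
import Cfsg.Agent.Mrg.Omega.NO3S.MidB.TGEnd
import Cfsg.Agent.Mrg.Omega.NO3S.MidB.Base
import Cfsg.Agent.Mrg.Omega.NO3S.PB.Geom
import Cfsg.Agent.Involutions.BaerSuzuki

-- merged: Cfsg.Agent.Omega.NO3S.MidB.No.McLAct
section

/-!
# Groups generated by transvections: a 2-group normalised by the stabiliser of a point

`McL lam Φ` with `Big`, `Dist`.  `ActTf lam Φ o f` : `f` is an involution of `M`, fixes the point `lam o` elementwise,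
permutes the points and the `Φ j`; for `s = (1 + ψ) (1 + ψ')`, `ψ`, `ψ'` killing `lam o`, `s⁻¹ f s f` is a 2-element;
`(1 + φ) f`, `φ ∈ Φ o`, is trivial on every point which it fixes.

* `McL.not_two` : `(1 + ψ') (1 + ψ)` is not a 2-element on `lam i + lam j` if `ψ ∈ Φ i` moves `lam j`, `ψ' ∈ Φ j` moves
  `lam i`;
* `McL.disp` : `f b + b ∈ lam o` for every `b ∈ lam j`.
-/

set_option autoImplicit false

namespace Cfsg.Agent.Omega.NO3S.MidQ

variable {M ι : Type*} [AddCommGroup M] {lam : ι → AddSubgroup M} {Φ : ι → AddSubgroup (AddMonoid.End M)}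

/-- see the header -/
structure ActTf (lam : ι → AddSubgroup M) (Φ : ι → AddSubgroup (AddMonoid.End M)) (o : ι) (f : AddMonoid.End M) :
    Prop where
  sq : f * f = 1
  fix : ∀ a ∈ lam o, f a = a
  mv : ∀ j, ∃ k, (∀ m ∈ lam j, f m ∈ lam k) ∧ ∀ ψ ∈ Φ j, f * ψ * f ∈ Φ k
  two : ∀ j, ∀ ψ ∈ Φ j, ∀ j', ∀ ψ' ∈ Φ j', Kl lam ψ o → Kl lam ψ' o →
    ∃ n : ℕ, ((1 + ψ') * (1 + ψ) * f * ((1 + ψ) * (1 + ψ')) * f) ^ (2 ^ n) = 1
  triv : ∀ φ ∈ Φ o, ∀ j, ∀ a ∈ lam j, a ≠ 0 → f a + φ (f a) ∈ lam j → f a + φ (f a) = a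

namespace McL

variable (h : McL lam Φ)
include h

theorem phi_eq {i j : ι} (e : lam i = lam j) : Φ i = Φ j := by
  obtain ⟨a, ha, ha0⟩ := h.lne i
  exact (h.same i j a ha (e ▸ ha) ha0).2

theorem jj_ne {i j : ι} (hj : JJ lam Φ i j) : lam i ≠ lam j := by
  intro e
  obtain ⟨φ, hφ, b, hb, hne⟩ := hj
  exact hne (h.ker i φ hφ b (e ▸ hb))

omit h in
theorem jj_right {i j k : ι} (hj : JJ lam Φ i j) (e : lam j = lam k) : JJ lam Φ i k := by
  obtain ⟨φ, hφ, b, hb, hne⟩ := hj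
  exact ⟨φ, hφ, b, e ▸ hb, hne⟩

theorem jj_left {i j k : ι} (hj : JJ lam Φ i j) (e : lam i = lam k) : JJ lam Φ k j := by
  obtain ⟨φ, hφ, b, hb, hne⟩ := hj
  exact ⟨φ, h.phi_eq e ▸ hφ, b, hb, hne⟩

theorem one_add_eq_zero {i : ι} {φ : AddMonoid.End M} (hφ : φ ∈ Φ i) {m : M} (e : m + φ m = 0) : m = 0 := by
  have h10 : ((1 + φ) * (1 + φ)) m = 0 := by
    show (1 + φ) (m + φ m) = 0
    rw [e, map_zero]
  rw [h.sq_end hφ] at h10
  exact h10

/-- the elements of `lam i + lam j` lie in points, if `i`, `j` are joined -/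
theorem exists_add {i j : ι} (hj : JJ lam Φ i j) {a b : M} (ha : a ∈ lam i) (hb : b ∈ lam j) :
    ∃ k, a + b ∈ lam k ∧ (lam k = lam i ∨ JJ lam Φ i k) := by
  by_cases hb0 : b = 0
  · exact ⟨i, by rw [hb0, add_zero]; exact ha, Or.inl rfl⟩
  obtain ⟨φ, hφ, e⟩ := h.surj i j b hb (h.moves hj hb hb0) a ha
  obtain ⟨k, h1, h2⟩ := h.mv i j φ hφ
  refine ⟨k, by have := h1 b hb; rwa [e, add_comm] at this, Or.inr ?_⟩
  obtain ⟨χ, hχ, c, hc, hne⟩ := h.symm hj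
  refine h.symm ⟨_, h2 χ hχ, c, hc, fun e1 => hne ?_⟩
  have e2 : χ c + φ (χ c) = 0 := by
    have e3 : (1 + φ) (χ (c + φ c)) = 0 := e1
    rw [h.ker i φ hφ c hc, add_zero] at e3
    exact e3
  exact h.one_add_eq_zero hφ e2

theorem pow_two_pow (N : AddMonoid.End M) (n : ℕ) : (1 + N) ^ (2 ^ n) = 1 + N ^ (2 ^ n) := by
  induction n with
  | zero => rw [pow_zero, pow_one, pow_one]
  | succ n ih =>
    rw [pow_succ, pow_mul, ih, pow_mul, pow_two, pow_two, add_mul, mul_add, mul_add, one_mul, mul_one, one_mul]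
    have h1 := h.two_end (N ^ 2 ^ n)
    calc 1 + N ^ 2 ^ n + (N ^ 2 ^ n + N ^ 2 ^ n * N ^ 2 ^ n)
        = 1 + (N ^ 2 ^ n + N ^ 2 ^ n) + N ^ 2 ^ n * N ^ 2 ^ n := by abel
      _ = _ := by rw [h1, add_zero]

/-- **two transvections moving each other's centres do not generate a 2-group** -/
theorem not_two {i j : ι} {ψ ψ' : AddMonoid.End M} (hψ : ψ ∈ Φ i) (hψ' : ψ' ∈ Φ j) (h1 : ¬ Kl lam ψ j)
    (h2 : ¬ Kl lam ψ' i) (n : ℕ) : ∃ e ∈ lam i ⊔ lam j, (((1 + ψ') * (1 + ψ)) ^ (2 ^ n) : AddMonoid.End M) e ≠ e := by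
  have hne : ∀ c ∈ lam i, c ∈ lam j → c = 0 := by
    intro c hc hc'
    by_contra hc0
    have h3 := (h.same i j c hc hc' hc0).1
    exact h1 fun b hb => h.ker i ψ hψ b (h3 ▸ hb)
  set N : AddMonoid.End M := ψ' + ψ + ψ' * ψ with hN
  have e1 : (1 + ψ') * (1 + ψ) = 1 + N := by
    rw [hN, add_mul, one_mul, mul_add, mul_one]
    abel
  have hNE : ∀ m, N m ∈ lam i ⊔ lam j := by
    intro m
    show ψ' m + ψ m + ψ' (ψ m) ∈ _
    exact add_mem (add_mem ((le_sup_right : lam j ≤ _) (h.val j ψ' hψ' m)) ((le_sup_left : lam i ≤ _) (h.val i ψ hψ m)))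
      ((le_sup_right : lam j ≤ _) (h.val j ψ' hψ' _))
  have hinj : ∀ v ∈ lam i ⊔ lam j, N v = 0 → v = 0 := by
    intro v hv hv0
    obtain ⟨a, ha, b, hb, rfl⟩ := AddSubgroup.mem_sup.1 hv
    have e2 : ψ' (a + b) + ψ (a + b) + ψ' (ψ (a + b)) = 0 := hv0
    have e3 : ψ (a + b) ∈ lam j := by
      have e4 : ψ (a + b) = -(ψ' (a + b) + ψ' (ψ (a + b))) := by
        rw [eq_neg_iff_add_eq_zero, ← e2]
        abel
      rw [e4]
      exact neg_mem (add_mem (h.val j ψ' hψ' _) (h.val j ψ' hψ' _))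
    have e5 := hne _ (h.val i ψ hψ _) e3
    rw [e5, map_zero, add_zero, add_zero] at e2
    rw [map_add, h.ker i ψ hψ a ha, zero_add] at e5
    rw [map_add, h.ker j ψ' hψ' b hb, add_zero] at e2
    have hb0 : b = 0 := by
      by_contra hb0
      exact h.ne_zero hψ h1 hb hb0 e5
    have ha0 : a = 0 := by
      by_contra ha0
      exact h.ne_zero hψ' h2 ha ha0 e2
    rw [ha0, hb0, add_zero]
  obtain ⟨a, ha, ha0⟩ := h.lne i
  have hpow : ∀ k : ℕ, (N ^ k) a ∈ lam i ⊔ lam j ∧ (N ^ k) a ≠ 0 := by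
    intro k
    induction k with
    | zero => exact ⟨by rw [pow_zero]; exact (le_sup_left : lam i ≤ _) ha, by rw [pow_zero]; exact ha0⟩
    | succ k ih =>
      have e2 : (N ^ (k + 1)) a = N ((N ^ k) a) := by rw [pow_succ']; rfl
      rw [e2]
      exact ⟨hNE _, fun e => ih.2 (hinj _ ih.1 e)⟩
  refine ⟨a, (le_sup_left : lam i ≤ _) ha, fun e => (hpow (2 ^ n)).2 ?_⟩
  rw [e1, h.pow_two_pow] at e
  have e2 : a + (N ^ 2 ^ n) a = a := e
  exact add_eq_left.1 e2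

/-- `f b + b ∈ lam o` -/
theorem disp (hB : Big lam Φ) (hD : Dist lam Φ) {o : ι} {f : AddMonoid.End M} (A : ActTf lam Φ o f) (j : ι) {b : M}
    (hb : b ∈ lam j) : f b + b ∈ lam o := by
  have hff : ∀ m, f (f m) = m := fun m => DFunLike.congr_fun A.sq m
  have hf0 : ∀ {m}, f m = 0 → m = 0 := fun {m} e => by rw [← hff m, e, map_zero]
  -- `ψ` kills `f lam_j`
  have key : ∀ j k : ι, (∀ m ∈ lam j, f m ∈ lam k) → (∀ ψ ∈ Φ j, f * ψ * f ∈ Φ k) → ∀ ψ ∈ Φ j, Kl lam ψ o →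
      Kl lam ψ k := by
    intro j k h1 h2 ψ hψ hk
    by_contra hno
    obtain ⟨w, hw, hw0⟩ := h.lne j
    have h3 : ¬ Kl lam (f * ψ * f) j := by
      intro e
      refine h.ne_zero hψ hno (h1 w hw) (fun e => hw0 (hf0 e)) ?_
      have e1 : f (ψ (f w)) = 0 := e w hw
      exact hf0 e1
    obtain ⟨n, hn⟩ := A.two j ψ hψ j 0 (zero_mem _) hk (fun _ _ => rfl)
    obtain ⟨e, -, he⟩ := h.not_two (h2 ψ hψ) hψ h3 hno n
    apply he
    have e1 : (1 + (0 : AddMonoid.End M)) * (1 + ψ) * f * ((1 + ψ) * (1 + 0)) * f = (1 + ψ) * (1 + f * ψ * f) := by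
      rw [add_zero, one_mul, mul_one]
      have e2 : f * (1 + ψ) * f = 1 + f * ψ * f := by rw [mul_add, add_mul, mul_one, A.sq]
      rw [← e2]
      simp only [mul_assoc]
    rw [e1] at hn
    rw [hn]
    rfl
  -- transport of `JJ`
  have tr : ∀ {j k : ι}, (∀ m ∈ lam j, f m ∈ lam k) → (∀ ψ ∈ Φ j, f * ψ * f ∈ Φ k) → ∀ {j' k' : ι},
      (∀ m ∈ lam j', f m ∈ lam k') → JJ lam Φ j j' → JJ lam Φ k k' := by
    rintro j k h1 h2 j' k' h3 ⟨ψ, hψ, c, hc, hne⟩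
    refine ⟨_, h2 ψ hψ, f c, h3 c hc, fun e => hne ?_⟩
    have e1 : f (ψ (f (f c))) = 0 := e
    rw [hff] at e1
    exact hf0 e1
  have hoo : ∀ m ∈ lam o, f m ∈ lam o := fun m hm => by rw [A.fix m hm]; exact hm
  by_cases hb0 : b = 0
  · rw [hb0, map_zero, add_zero]; exact zero_mem _
  obtain ⟨k, hk1, hk2⟩ := A.mv j
  by_cases hoj : lam o = lam j
  · rw [A.fix b (hoj ▸ hb), h.two]
    exact zero_mem _
  by_cases hJ : JJ lam Φ o j
  · -- the class of `o`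
    have hjo := h.symm hJ
    have hko : JJ lam Φ k o := tr hk1 hk2 hoo hjo
    -- `f b = v + α`
    obtain ⟨v, hv, α, hα, hfb⟩ : ∃ v ∈ lam j, ∃ α ∈ lam o, f b = v + α := by
      by_cases hjk : lam j = lam k
      · exact ⟨f b, hjk ▸ hk1 b hb, 0, zero_mem _, by rw [add_zero]⟩
      have hjk' : JJ lam Φ j k := h.trans hB hD hjo (h.symm hko) hjk
      obtain ⟨φ₀, hφ₀, hφ₀k⟩ : ∃ φ₀ ∈ Φ j, ¬ Kl lam φ₀ k := by
        obtain ⟨φ, hφ, c, hc, hne⟩ := hjk'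
        exact ⟨φ, hφ, fun e => hne (e c hc)⟩
      have hφ₀o : ¬ Kl lam φ₀ o := fun e => hφ₀k (key j k hk1 hk2 φ₀ hφ₀ e)
      obtain ⟨α, hα, hαe⟩ := h.exists_pre hφ₀ hφ₀o (h.val j φ₀ hφ₀ (f b))
      obtain ⟨γ, hγ, hγe⟩ := h.exists_E hB (key j k hk1 hk2) hjk' hα
      have hγb : γ = f b := by
        by_contra hne
        refine h.ne_zero hφ₀ hφ₀k (sub_mem hγ (hk1 b hb)) (sub_ne_zero.2 hne) ?_
        have e1 := hγe φ₀ hφ₀
        rw [map_add, h.add_eq_zero] at e1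
        rw [map_sub, ← e1, hαe, sub_self]
      rw [hγb] at hγ hγe
      obtain ⟨e, he, he'⟩ := h.exists_add (h.symm hko) hα hγ
      refine ⟨α + f b, ?_, α, hα, ?_⟩
      · by_cases hv0 : α + f b = 0
        · rw [hv0]; exact zero_mem _
        have hje : ¬ JJ lam Φ j e := by
          intro hJe
          obtain ⟨φ, hφ, hne⟩ := h.moves hJe he hv0
          exact hne (hγe φ hφ)
        rcases he' with he' | he'
        · exact absurd (McL.jj_right hjo he'.symm) hje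
        · by_contra hno
          refine hje (h.trans hB hD hjo he' fun e1 => hno ?_)
          rw [e1]
          exact he
      · rw [add_comm α, add_assoc, h.two, add_zero]
    have hv0 : v ≠ 0 := by
      rintro rfl
      rw [zero_add] at hfb
      have e1 : b = α := by rw [← hff b, hfb, A.fix α hα]
      rw [← e1] at hα
      exact hoj (h.same o j b hα hb hb0).1
    obtain ⟨φ, hφ, hφe⟩ := h.surj o j v hv (h.moves hJ hv hv0) α hα
    have e1 : f b + φ (f b) = v := by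
      rw [hfb, map_add, hφe, h.ker o φ hφ α hα, add_zero, add_assoc, h.two, add_zero]
    have e2 := A.triv φ hφ j b hb hb0 (by rw [e1]; exact hv)
    rw [e1] at e2
    rw [hfb, e2, add_comm b, add_assoc, h.two, add_zero]
    exact hα
  · -- another class
    have hkl : ∀ ψ ∈ Φ j, Kl lam ψ o := by
      intro ψ hψ
      by_contra hno
      exact hJ (h.symm (h.jj hψ hno))
    have hjk : ¬ JJ lam Φ j k := by
      rintro ⟨ψ, hψ, c, hc, hne⟩
      exact hne (key j k hk1 hk2 ψ hψ (hkl ψ hψ) c hc)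
    by_cases hjk' : lam j = lam k
    · have e1 := A.triv 0 (zero_mem _) j b hb hb0 (by
        show f b + 0 ∈ lam j
        rw [add_zero, hjk']
        exact hk1 b hb)
      have e2 : f b + 0 = b := e1
      rw [add_zero] at e2
      rw [e2, h.two]
      exact zero_mem _
    exfalso
    obtain ⟨φ₀, hφ₀, hφ₀0⟩ := h.ne j
    obtain ⟨ν, hν⟩ := h.exists_not_kl hφ₀ hφ₀0
    have hjν : JJ lam Φ j ν := h.jj hφ₀ hν
    obtain ⟨χ, hχ, c, hc, hχc⟩ := h.symm hjν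
    have hχj : ¬ Kl lam χ j := fun e => hχc (e c hc)
    have hνj : JJ lam Φ ν j := ⟨χ, hχ, c, hc, hχc⟩
    obtain ⟨k', hk1', hk2'⟩ := A.mv ν
    have hkk' : JJ lam Φ k k' := tr hk1 hk2 hk1' hjν
    have hklν : ∀ ψ ∈ Φ ν, Kl lam ψ o := by
      intro ψ hψ
      by_contra hno
      have h1 : JJ lam Φ o ν := h.symm (h.jj hψ hno)
      exact hJ (h.trans hB hD h1 hνj hoj)
    -- nothing of the class of `j` is joined to `k`, `k'`
    have hkj : ¬ JJ lam Φ k j := fun e => hjk (h.symm e)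
    have hk'j : ¬ JJ lam Φ k' j := fun e => hkj (h.trans hB hD hkk' e fun e1 => hjk' e1.symm)
    have hkν : ¬ JJ lam Φ k ν := fun e => hkj (h.trans hB hD e hνj fun e1 => hjk' e1.symm)
    have hk'ν : ¬ JJ lam Φ k' ν := fun e => hkν (h.trans hB hD hkk' e fun e1 =>
      hkj (h.jj_left hνj e1.symm))
    obtain ⟨n, hn⟩ := A.two j φ₀ hφ₀ ν χ hχ (hkl φ₀ hφ₀) (hklν χ hχ)
    obtain ⟨e, he, hee⟩ := h.not_two hφ₀ hχ hν hχj n
    apply hee
    -- `f s f` is trivial on `E`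
    have hz : ∀ x ∈ lam j ⊔ lam ν, ∀ φ ∈ Φ k, φ x = 0 := by
      intro x hx φ hφ
      obtain ⟨a, ha, c, hc, rfl⟩ := AddSubgroup.mem_sup.1 hx
      have e1 : φ a = 0 := by
        by_contra hne
        exact hkj ⟨φ, hφ, a, ha, hne⟩
      have e2 : φ c = 0 := by
        by_contra hne
        exact hkν ⟨φ, hφ, c, hc, hne⟩
      rw [map_add, e1, e2, add_zero]
    have hz' : ∀ x ∈ lam j ⊔ lam ν, ∀ φ ∈ Φ k', φ x = 0 := by
      intro x hx φ hφ
      obtain ⟨a, ha, c, hc, rfl⟩ := AddSubgroup.mem_sup.1 hx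
      have e1 : φ a = 0 := by
        by_contra hne
        exact hk'j ⟨φ, hφ, a, ha, hne⟩
      have e2 : φ c = 0 := by
        by_contra hne
        exact hk'ν ⟨φ, hφ, c, hc, hne⟩
      rw [map_add, e1, e2, add_zero]
    have hE : ∀ x ∈ lam j ⊔ lam ν, ((1 + χ) * (1 + φ₀)) x ∈ lam j ⊔ lam ν := by
      intro x hx
      show (x + φ₀ x) + χ (x + φ₀ x) ∈ _
      exact add_mem (add_mem hx ((le_sup_left : lam j ≤ _) (h.val j φ₀ hφ₀ x)))
        ((le_sup_right : lam ν ≤ _) (h.val ν χ hχ _))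
    have hT : ∀ x ∈ lam j ⊔ lam ν,
        ((1 + χ) * (1 + φ₀) * f * ((1 + φ₀) * (1 + χ)) * f) x = ((1 + χ) * (1 + φ₀)) x := by
      intro x hx
      have e1 : (1 + χ) * (1 + φ₀) * f * ((1 + φ₀) * (1 + χ)) * f =
          (1 + χ) * (1 + φ₀) * ((1 + f * φ₀ * f) * (1 + f * χ * f)) := by
        have e2 : f * (1 + φ₀) * f = 1 + f * φ₀ * f := by rw [mul_add, add_mul, mul_one, A.sq]
        have e3 : f * (1 + χ) * f = 1 + f * χ * f := by rw [mul_add, add_mul, mul_one, A.sq]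
        rw [← e2, ← e3]
        calc (1 + χ) * (1 + φ₀) * f * ((1 + φ₀) * (1 + χ)) * f
            = (1 + χ) * (1 + φ₀) * (f * (1 + φ₀)) * (1 * ((1 + χ) * f)) := by
              rw [one_mul]; simp only [mul_assoc]
          _ = (1 + χ) * (1 + φ₀) * (f * (1 + φ₀) * f * (f * (1 + χ) * f)) := by
              rw [← A.sq]; simp only [mul_assoc]
      rw [e1]
      show ((1 + χ) * (1 + φ₀)) ((x + (f * χ * f) x) + (f * φ₀ * f) (x + (f * χ * f) x)) = _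
      rw [hz' x hx _ (hk2' χ hχ), add_zero, hz x hx _ (hk2 φ₀ hφ₀), add_zero]
    have hpow : ∀ m : ℕ, ∀ x ∈ lam j ⊔ lam ν, (((1 + χ) * (1 + φ₀)) ^ m) x ∈ lam j ⊔ lam ν ∧
        (((1 + χ) * (1 + φ₀) * f * ((1 + φ₀) * (1 + χ)) * f) ^ m) x = (((1 + χ) * (1 + φ₀)) ^ m) x := by
      intro m x hx
      induction m with
      | zero => exact ⟨by rw [pow_zero]; exact hx, by rw [pow_zero, pow_zero]⟩
      | succ m ih =>
        have e1 : (((1 + χ) * (1 + φ₀)) ^ (m + 1)) x = ((1 + χ) * (1 + φ₀)) ((((1 + χ) * (1 + φ₀)) ^ m) x) := by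
          rw [pow_succ']; rfl
        refine ⟨by rw [e1]; exact hE _ ih.1, ?_⟩
        rw [e1, ← hT _ ih.1, ← ih.2, pow_succ']
        rfl
    rw [← (hpow (2 ^ n) e he).2, hn]
    rfl

end McL

end Cfsg.Agent.Omega.NO3S.MidQ

end

-- merged: Cfsg.Agent.Mrg.Omega.NO3S.MidB.No.McLT
section

/-!
# NO-3S, the `(R, B)`-frame, `n = 2`: TYPE N from one flat critical triple (bb OMEGA #19438 step 9, #19900 (3.2), (3.3))

* `TT.act` : an element of `W_C`, `C ~ A ~ R`, is an `ActTf` of `W_R / R`;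
* `TT.disp_line` : `[W_C, W_R] ≤ L`, `L` the line on `A`, `R`;
* **`Mid.typN_of_flat`** : a critical triple `(C, A, R)` with `[W_C, W_R] ≤ A` and commuting `w ∈ W_C`, `m ∈ W_R`,
  `w ∉ C(W_R)`, `m ∉ C(W_C)`, gives `TypN V Z`, if `NF V Z`.
-/

set_option autoImplicit false
set_option linter.unusedSectionVars false

namespace Cfsg.Agent.Omega.NO3S.MidB.No

open Subgroup Cfsg.Agent.Omega.NO3S.PT Cfsg.Agent.Omega.NoFF.Basic Cfsg.Agent.ZN
open Cfsg.Agent.Omega.NO3S.MidQ (Adj Com Cr UU ws_of kx_of isCj_iff adj_iff com_iff cr_iff UU_of isCj_symm isCj_trans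
  com_cj UU_cj le_UU normalizer_le_UU isPGroup_sSup TypN McL JJ Kl Dist surj_of_inj comm_inj ActTf)
open scoped Pointwise

universe u

variable {G : Type u} [Group G] {V Z X Y R L A A' B B' C : Subgroup G}
variable {M : Type*} [AddCommGroup M] {π : G → M}

namespace TT

variable [Finite G] {S : Sylow 2 G} {P : Subgroup G} (h : TT S P V Z)
include h

section

variable (hM : Md V R π)
include hM

/-- `1 + φ` is conjugation by `g` -/
theorem one_add (hA : Adj V Z A R) {g : G} (hg : g ∈ UT V Z R A) {φ : AddMonoid.End M}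
    (e : ∀ w ∈ ws V R, φ (π w) = π (g * w * g⁻¹ * w⁻¹)) : ∀ w ∈ ws V R, (1 + φ) (π w) = π (g * w * g⁻¹) := by
  intro w hw
  show π w + φ (π w) = _
  rw [e w hw, ← hM.mul w hw _ (h.c_ws hA hg hw), h.ws_comm hA.right hw (h.c_ws hA hg hw)]
  congr 1
  group

/-- `1 + φ` is conjugation by `g⁻¹` -/
theorem one_add' (hA : Adj V Z A R) {g : G} (hg : g ∈ UT V Z R A) {φ : AddMonoid.End M}
    (e : ∀ w ∈ ws V R, φ (π w) = π (g * w * g⁻¹ * w⁻¹)) : ∀ w ∈ ws V R, (1 + φ) (π w) = π (g⁻¹ * w * g⁻¹⁻¹) := by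
  refine h.one_add hM hA (inv_mem hg) fun w hw => ?_
  rw [h.c_inv hA hg hw, e w hw, h.ws_inv hA.right (h.c_ws hA hg hw)]

/-- an element of `W_C`, `C ~ A ~ R`, on `W_R / R` -/
theorem act (hA : Adj V Z A R) (hC : Adj V Z C A) {f : G} (hf : f ∈ ws V C) {ν : AddMonoid.End M}
    (hν : ∀ w ∈ ws V R, ν (π w) = π (f * w * f⁻¹)) :
    ActTf (fun i : {A // Adj V Z A R} => lamR π i.1) (fun i => PhiT V Z R π i.1) ⟨A, hA⟩ ν := by
  have hR := hA.right
  have hfU : f ∈ UU V Z A := le_UU hC hf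
  have hfR : f ∈ centralizer (R : Set G) := h.UU_le_cent_adj hA.symm hfU
  have hcR : PT.cj f R = R := h.cj_UU_adj hfU hA
  have hff : f * f = 1 := h.ws_sq hC.left hf
  have hfi : f⁻¹ = f := inv_eq_of_mul_eq_one_left hff
  have hW : ∀ {w : G}, w ∈ ws V R → f * w * f⁻¹ ∈ ws V R := fun hw => conj_ws hcR hw
  have hνν : ∀ w ∈ ws V R, ν (ν (π w)) = π w := by
    intro w hw
    rw [hν w hw, hν _ (hW hw)]
    congr 1
    calc f * (f * w * f⁻¹) * f⁻¹ = (f * f) * w * (f * f)⁻¹ := by group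
      _ = w := by rw [hff]; group
  refine ⟨hM.end_ext hνν, fun a ha => ?_, fun j => ?_, fun j ψ hψ j' ψ' hψ' hk hk' => ?_, fun φ hφ j a ha ha0 hin => ?_⟩
  · obtain ⟨α, hα, rfl⟩ := (h.mem_lam hM hA).1 ha
    rw [hν α (h.adj_ws hA hα)]
    congr 1
    rw [← mem_centralizer_iff.1 (h.UU_le_cent_pt hA.left hfU) α hα, mul_inv_cancel_right]
  · have hk : Adj V Z (PT.cj f j.1) R := by
      have h1 := j.2.cj f
      rwa [hcR] at h1
    refine ⟨⟨PT.cj f j.1, hk⟩, fun m hm => ?_, fun ψ hψ => ?_⟩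
    · obtain ⟨b, hb, rfl⟩ := (h.mem_lam hM j.2).1 hm
      rw [hν b (h.adj_ws j.2 hb)]
      exact h.pi_mem hM hk (conj_mem_cj hb)
    · obtain ⟨g, hg, e⟩ := (h.mem_phi hM j.2).1 hψ
      refine (h.mem_phi hM hk).2 ⟨f * g * f⁻¹, ?_, fun w hw => ?_⟩
      · have h1 := UT_cj V Z R j.1 f
        rw [hcR] at h1
        rw [h1]
        exact conj_mem_cj hg
      · show ν (ψ (ν (π w))) = _
        rw [hν w hw, e _ (hW hw), hν _ (h.c_ws j.2 hg (hW hw))]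
        congr 1
        have e1 : f * (f * w * f⁻¹) * f⁻¹ = w := by
          calc f * (f * w * f⁻¹) * f⁻¹ = (f * f) * w * (f * f)⁻¹ := by group
            _ = w := by rw [hff]; group
        calc f * (g * (f * w * f⁻¹) * g⁻¹ * (f * w * f⁻¹)⁻¹) * f⁻¹
            = f * g * f⁻¹ * (f * (f * w * f⁻¹) * f⁻¹) * (f * g * f⁻¹)⁻¹ * (f * (f * w * f⁻¹) * f⁻¹)⁻¹ := by group
          _ = _ := by rw [e1]
  · obtain ⟨g, hg, e⟩ := (h.mem_phi hM j.2).1 hψ
    obtain ⟨g', hg', e'⟩ := (h.mem_phi hM j'.2).1 hψ'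
    have hgA := (h.kl_iff hM j.2 hA hg e).1 hk
    have hgA' := (h.kl_iff hM j'.2 hA hg' e').1 hk'
    have hyA : g * g' ∈ centralizer (A : Set G) := by
      rw [mem_centralizer_iff]
      intro a ha
      rw [← mul_assoc, ← hgA a ha, mul_assoc, ← hgA' a ha, mul_assoc]
    have hyU : g * g' ∈ normalizer ((UU V Z A : Subgroup G) : Set G) :=
      normalizer_le_UU V Z A (centralizer_le_normalizer _ hyA)
    set t := (g * g')⁻¹ * f * (g * g') * f⁻¹ with ht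
    have htU : t ∈ UU V Z A := by
      have h1 := (mem_normalizer_iff.1 (inv_mem hyU) f).1 hfU
      rw [inv_inv] at h1
      exact mul_mem h1 (inv_mem hfU)
    obtain ⟨n, hn⟩ := h.twoEl_UU htU
    have htR : PT.cj t R = R := h.cj_UU_adj htU hA
    refine ⟨n, ?_⟩
    set T := (1 + ψ') * (1 + ψ) * ν * ((1 + ψ) * (1 + ψ')) * ν with hT
    have hact : ∀ w ∈ ws V R, T (π w) = π (t * w * t⁻¹) := by
      intro w hw
      show (1 + ψ') ((1 + ψ) (ν ((1 + ψ) ((1 + ψ') (ν (π w)))))) = _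
      have h1 := hW hw
      have h2 := h.u_ws j'.2 hg' h1
      have h3 := h.u_ws j.2 hg h2
      have h4 := hW h3
      have h5 := h.u_ws j.2 (inv_mem hg) h4
      rw [hν w hw, h.one_add hM j'.2 hg' e' _ h1, h.one_add hM j.2 hg e _ h2, hν _ h3, h.one_add' hM j.2 hg e _ h4,
        h.one_add' hM j'.2 hg' e' _ h5]
      congr 1
      have e1 : t = (g * g')⁻¹ * f * (g * g') * f := by rw [ht, hfi]
      rw [e1]
      group
    have hpow : ∀ k : ℕ, ∀ w ∈ ws V R, (T ^ k) (π w) = π (t ^ k * w * (t ^ k)⁻¹) := by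
      intro k
      induction k with
      | zero => intro w hw; simp
      | succ k ih =>
        intro w hw
        have e1 : (T ^ (k + 1)) (π w) = (T ^ k) (T (π w)) := by rw [pow_succ]; rfl
        rw [e1, hact w hw, ih _ (conj_ws htR hw)]
        congr 1
        rw [pow_succ]
        group
    refine hM.end_ext fun w hw => ?_
    rw [hpow _ w hw, hn]
    simp
  · obtain ⟨u, hu, e⟩ := (h.mem_phi hM hA).1 hφ
    obtain ⟨β, hβ, rfl⟩ := (h.mem_lam hM j.2).1 ha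
    have hβW := h.adj_ws j.2 hβ
    have hβ1 : β ≠ 1 := fun e => ha0 (by rw [e, hM.map_one])
    have e1 : ν (π β) + φ (ν (π β)) = π (u * f * β * (u * f)⁻¹) := by
      have h1 := h.one_add hM hA hu e _ (hW hβW)
      have h2 : ν (π β) + φ (ν (π β)) = π (u * (f * β * f⁻¹) * u⁻¹) := by
        rw [hν β hβW]
        exact h1
      rw [h2]
      congr 1
      group
    have hxU : u * f ∈ UU V Z A := mul_mem (UT_le_UU hu) hfU
    have hxR : u * f ∈ centralizer (R : Set G) := h.UU_le_cent_adj hA.symm hxU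
    have hxW : u * f * β * (u * f)⁻¹ ∈ ws V R := conj_ws (h.cj_UU_adj hxU hA) hβW
    rw [e1] at hin ⊢
    obtain ⟨β', hβ', e2⟩ := (h.mem_lam hM j.2).1 hin
    obtain ⟨L, hL, hjL, hRL⟩ := j.2.line
    have h1 : u * f * β * (u * f)⁻¹ * β'⁻¹ ∈ R := hM.mem_of hxW (h.adj_ws j.2 hβ') e2.symm
    have h2 : u * f * β * (u * f)⁻¹ ∈ L := by
      have e3 : u * f * β * (u * f)⁻¹ = u * f * β * (u * f)⁻¹ * β'⁻¹ * β' := by group
      rw [e3]
      exact mul_mem (hRL h1) (hjL hβ')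
    have hβR : β ∉ R := fun e => hβ1 (h.inf_R j.2 hβ e)
    have h3 := h.stab hR hL hRL (centralizer_le_normalizer _ hxR) (hjL hβ) hβR h2
    have h4 := h.act_line hR hL hRL (h.twoEl_UU hxU) hxR h3 β (hjL hβ)
    exact hM.eq_of hxW hβW h4

/-- `[W_C, W_R] ≤ L`, `L` the line on `A`, `R`, `C ~ A` -/
theorem disp_line (hB : McL.Big (fun i : {A // Adj V Z A R} => lamR π i.1) (fun i => PhiT V Z R π i.1))
    (hNF : NF V Z) (hA : Adj V Z A R) (hC : Adj V Z C A) (hL : IsCj V L) (hAL : A ≤ L) (hRL : R ≤ L) {f w : G}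
    (hf : f ∈ ws V C) (hw : w ∈ ws V R) : f * w * f⁻¹ * w⁻¹ ∈ L := by
  have hR := hA.right
  have hfU : f ∈ UU V Z A := le_UU hC hf
  have hfR : f ∈ centralizer (R : Set G) := h.UU_le_cent_adj hA.symm hfU
  have hcR : PT.cj f R = R := h.cj_UU_adj hfU hA
  obtain ⟨ν, hν⟩ := exists_conj_end hM hcR
  have hact := h.act hM hA hC hf hν
  have hLW : L ≤ ws V R := h.line_le hL hRL
  have hcW : ∀ {w : G}, w ∈ ws V R → f * w * f⁻¹ * w⁻¹ ∈ ws V R := fun hw => mul_mem (conj_ws hcR hw) (inv_mem hw)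
  let K : Subgroup G :=
    { carrier := {w | w ∈ ws V R ∧ f * w * f⁻¹ * w⁻¹ ∈ L}
      one_mem' := ⟨one_mem _, by simp⟩
      mul_mem' := by
        rintro a b ⟨ha, ha'⟩ ⟨hb, hb'⟩
        refine ⟨mul_mem ha hb, ?_⟩
        have h1 := h.ws_comm hR ha (hcW hb)
        have e : f * (a * b) * f⁻¹ * (a * b)⁻¹ = f * a * f⁻¹ * a⁻¹ * (f * b * f⁻¹ * b⁻¹) := by
          calc f * (a * b) * f⁻¹ * (a * b)⁻¹ = f * a * f⁻¹ * a⁻¹ * (a * (f * b * f⁻¹ * b⁻¹)) * a⁻¹ := by group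
            _ = _ := by rw [h1]; group
        rw [e]
        exact mul_mem ha' hb'
      inv_mem' := by
        rintro a ⟨ha, ha'⟩
        refine ⟨inv_mem ha, ?_⟩
        have h1 := h.ws_comm hR (inv_mem ha) (inv_mem (hcW ha))
        have e : f * a⁻¹ * f⁻¹ * a⁻¹⁻¹ = (f * a * f⁻¹ * a⁻¹)⁻¹ := by
          calc f * a⁻¹ * f⁻¹ * a⁻¹⁻¹ = a⁻¹ * (f * a * f⁻¹ * a⁻¹)⁻¹ * a := by group
            _ = _ := by rw [h1]; group
        rw [e]
        exact inv_mem ha' }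
  have hK : ws V R ≤ K := by
    refine h.ws_le_of hR (fun r hr => ⟨h.pt_le_ws hR hr, ?_⟩) (fun B hB' b hb => ⟨h.adj_ws hB' hb, ?_⟩)
    · rw [← mem_centralizer_iff.1 hfR r hr]
      simp
    · have hbW := h.adj_ws hB' hb
      have h1 := (h.mcl hM hR).disp hB (h.dist hM hNF hR) hact ⟨B, hB'⟩ (h.pi_mem hM hB' hb)
      have h2 : ν (π b) + π b = π (f * b * f⁻¹ * b⁻¹) := by
        rw [hν b hbW, hM.mul _ (conj_ws hcR hbW) _ (inv_mem hbW), h.ws_inv hR hbW]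
      rw [h2] at h1
      obtain ⟨a, ha, e⟩ := (h.mem_lam hM hA).1 h1
      have h3 : f * b * f⁻¹ * b⁻¹ * a⁻¹ ∈ R := hM.mem_of (hcW hbW) (h.adj_ws hA ha) e.symm
      have e3 : f * b * f⁻¹ * b⁻¹ = f * b * f⁻¹ * b⁻¹ * a⁻¹ * a := by group
      rw [e3]
      exact mul_mem (hRL h3) (hAL ha)
  exact (hK hw).2

end

/-- two different lines on `R` meet in `R` -/
theorem inf_lines (hR : IsCj Z R) {L' : Subgroup G} (hL : IsCj V L) (hL' : IsCj V L') (hRL : R ≤ L) (hRL' : R ≤ L')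
    (hne : L ≠ L') {v : G} (hv : v ∈ L) (hv' : v ∈ L') : v ∈ R := by
  by_cases hv1 : v = 1
  · rw [hv1]; exact one_mem _
  obtain ⟨D, hD, hDL, hvD⟩ := h.exists_point hL hv hv1
  obtain ⟨D', hD', hDL', hvD'⟩ := h.exists_point hL' hv' hv1
  have h1 : D = D' := h.pts_eq hD hD' hvD hvD' hv1
  by_cases h2 : D = R
  · rw [← h2]; exact hvD
  · exact absurd (h.line_unique hR hD (Ne.symm h2) hL hL' hRL hDL hRL' (h1 ▸ hDL')) hne

end TT

end Cfsg.Agent.Omega.NO3S.MidB.No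

namespace Cfsg.Agent.Omega.NO3S.MidB

open Subgroup Cfsg.Agent.Omega.NO3S.PT Cfsg.Agent.Omega.NoFF.Basic Cfsg.Agent.ZN Cfsg.Agent.Omega.NO3S.MidB.No
open Cfsg.Agent.Omega.NO3S.MidQ (Adj Com Cr UU TypN)

variable {G : Type*} [Group G] [Finite G] {S : Sylow 2 G} {P V Z C A R : Subgroup G}

/-- **TYPE N from one flat critical triple** -/
theorem Mid.typN_of_flat (h : Mid S P V Z) (hNF : NF V Z) (hc : Cr V Z C A R)
    (hi : ∀ a ∈ ws V C, ∀ b ∈ ws V R, a * b * a⁻¹ * b⁻¹ ∈ A) {w m : G} (hw : w ∈ ws V C) (hm : m ∈ ws V R)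
    (hwm : w * m = m * w) (hw' : ∃ b ∈ ws V R, w * b ≠ b * w) (hm' : ∃ a ∈ ws V C, a * m ≠ m * a) : TypN V Z := by
  have hT : TT S P V Z := ⟨h, C, A, R, hc, hi⟩
  -- `[W_D, W_X] ≤ L` for every `D ~ Y ~ X`, `L` the line on `Y`, `X`
  have key : ∀ X Y D L : Subgroup G, Adj V Z Y X → Adj V Z D Y → IsCj V L → Y ≤ L → X ≤ L → ∀ f ∈ ws V D,
      ∀ x ∈ ws V X, f * x * f⁻¹ * x⁻¹ ∈ L := by
    intro X Y D L hYX hDY hL hYL hXL f hf x hx
    obtain ⟨g, hg⟩ : ∃ g : G, PT.cj g R = X := by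
      obtain ⟨a, ha⟩ := hc.r.right
      obtain ⟨b, hb⟩ := hYX.right
      exact ⟨b * a⁻¹, by rw [ha, hb, cj_cj, inv_mul_cancel_right]⟩
    obtain ⟨M, _, π, hM⟩ := exists_md h hYX.right
    have hc' := hc.cj g
    have hi' : Flat V (PT.cj g C) (PT.cj g A) (PT.cj g R) := Flat.cj hi g
    rw [hg] at hc' hi'
    have hcw : ∀ {K : Subgroup G} {y : G}, y ∈ ws V K → g * y * g⁻¹ ∈ ws V (PT.cj g K) := fun hy => by
      rw [ws_cj]
      exact conj_mem_cj hy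
    have hmX : g * m * g⁻¹ ∈ ws V X := by
      have := hcw hm
      rwa [hg] at this
    refine hT.disp_line hM (hT.big hM hc' hi' (hcw hw) hmX ?_ ?_ ?_) hNF hYX hDY hL hYL hXL hf hx
    · calc g * w * g⁻¹ * (g * m * g⁻¹) = g * (w * m) * g⁻¹ := by group
        _ = g * m * g⁻¹ * (g * w * g⁻¹) := by rw [hwm]; group
    · obtain ⟨b, hb, hne⟩ := hw'
      refine ⟨g * b * g⁻¹, ?_, fun e => hne ?_⟩
      · have := hcw hb
        rwa [hg] at this
      · have h3 := congrArg (fun t => g⁻¹ * t * g) e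
        simpa [mul_assoc] using h3
    · obtain ⟨a, ha, hne⟩ := hm'
      refine ⟨g * a * g⁻¹, hcw ha, fun e => hne ?_⟩
      have h3 := congrArg (fun t => g⁻¹ * t * g) e
      simpa [mul_assoc] using h3
  intro X R' Y hcr a ha b hb
  obtain ⟨L, hL, hXL, hRL⟩ := hcr.l.line
  obtain ⟨L', hL', hRL', hYL'⟩ := hcr.r.line
  have hne : L ≠ L' := by
    rintro rfl
    exact h.cr_not_le hcr hL hYL' hXL
  -- centre `Y`: `[W_X, W_Y] ≤ L'`
  have h1 := key Y R' X L' hcr.r hcr.l hL' hRL' hYL' a ha b hb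
  -- centre `X`
  have h2 := key X R' Y L hcr.l.symm hcr.r.symm hL hRL hXL b hb a ha
  have h3 : a * b * a⁻¹ * b⁻¹ ∈ L := by
    have e : a * b * a⁻¹ * b⁻¹ = (b * a * b⁻¹ * a⁻¹)⁻¹ := by group
    rw [e]
    exact inv_mem h2
  exact hT.inf_lines hcr.l.right hL hL' hRL hRL' hne h3 h1

end Cfsg.Agent.Omega.NO3S.MidB

end

-- merged: Cfsg.Agent.Mrg.Omega.NO3S.MidB.No.DistT
section

section


/-!
# NO-3S, the `(R, B)`-frame, `n = 2`: (DIST) for the flat groups; TYPE N without any hypothesis on `W_R / R`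

`MidB/Dist.lean` with `UT V Z R X` in place of `U_X`.

* `TT.distT` : `Dist`;
* **`Mid.typN_of_flat'`**.
-/

set_option autoImplicit false
set_option linter.unusedSectionVars false

namespace Cfsg.Agent.Omega.NO3S.MidB.No

open Subgroup Cfsg.Agent.Omega.NO3S.PT Cfsg.Agent.Omega.NoFF.Basic Cfsg.Agent.ZN
open Cfsg.Agent.Omega.NO3S.MidQ (Adj Com Cr UU ws_of kx_of isCj_iff adj_iff com_iff cr_iff UU_of isCj_symm isCj_trans
  com_cj UU_cj le_UU normalizer_le_UU isPGroup_sSup TypN McL JJ Kl Dist surj_of_inj comm_inj ActTf)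
open scoped Pointwise

universe u

variable {G : Type u} [Group G] {V Z X Y R L A A' B B' C : Subgroup G}
variable {M : Type*} [AddCommGroup M] {π : G → M}

namespace TT

variable [Finite G] {S : Sylow 2 G} {P : Subgroup G} (h : TT S P V Z)
include h

/-- `UT V Z R A` moves `B` -/
theorem jj_iff (hM : Md V R π) (hA : Adj V Z A R) (hB : Adj V Z B R) :
    JJ (fun i : {A // Adj V Z A R} => lamR π i.1) (fun i => PhiT V Z R π i.1) ⟨A, hA⟩ ⟨B, hB⟩ ↔
      ∃ g ∈ UT V Z R A, ∃ b ∈ B, g * b ≠ b * g := by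
  constructor
  · rintro ⟨φ, hφ, b, hb, hne⟩
    obtain ⟨g, hg, e⟩ := (h.mem_phi hM hA).1 hφ
    by_contra hcon
    push Not at hcon
    exact hne ((h.kl_iff hM hA hB hg e).2 (fun b hb => hcon g hg b hb) b hb)
  · rintro ⟨g, hg, b, hb, hgb⟩
    obtain ⟨φ, hφ, e⟩ := h.exists_phi hM hA hg
    exact ⟨φ, hφ, π b, h.pi_mem hM hB hb, fun e1 => hgb ((h.phi_zero_iff hM hA hg e (h.adj_ws hB hb)).1 e1)⟩

/-- if `g ∈ UT` moves an element of `B`, it moves all elements `≠ 1` -/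
theorem mv_all (hA : Adj V Z A R) (hB : Adj V Z B R) {g : G} (hg : g ∈ UT V Z R A) (hmv : ∃ b ∈ B, g * b ≠ b * g) {b : G}
    (hb : b ∈ B) (hb1 : b ≠ 1) : g * b ≠ b * g := by
  intro e
  obtain ⟨c, hc, hne⟩ := hmv
  exact hne (h.t3 hB.symm (h.twoEl_ut hg) (fun r hr => h.u_R hA hg hr) hb hb1 e c hc)

/-- **(DIST)**, group level -/
theorem dist_grp (hA : Adj V Z A R) (hC : Adj V Z C R) {α γ : G} (hα : α ∈ A) (hγ : γ ∈ C)
    (hu : ∀ X, Adj V Z X R → ∀ u ∈ UT V Z R X, u * (α * γ) = α * γ * u) : α * γ ∈ R := by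
  have hR := hA.right
  obtain ⟨M, _, π, hM⟩ := exists_md h.toMid hR
  have h0 := h.mcl hM hR
  have hαW : α ∈ ws V R := h.adj_le_ws hA.symm hα
  have hγW : γ ∈ ws V R := h.adj_le_ws hC.symm hγ
  -- something moves `B ~ R`
  have hjoin : ∀ B, Adj V Z B R → ∃ X, Adj V Z X R ∧ (∃ g ∈ UT V Z R X, ∃ b ∈ B, g * b ≠ b * g) ∧
      ∃ g ∈ UT V Z R B, ∃ x ∈ X, g * x ≠ x * g := by
    intro B hB
    obtain ⟨φ, hφ, hφ0⟩ := h0.ne ⟨B, hB⟩
    obtain ⟨j, hj⟩ := h0.exists_not_kl hφ hφ0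
    have hJ : JJ (fun i : {A // Adj V Z A R} => lamR π i.1) (fun i => PhiT V Z R π i.1) ⟨B, hB⟩ j := h0.jj hφ hj
    exact ⟨j.1, j.2, (h.jj_iff hM j.2 hB).1 (h0.symm hJ), (h.jj_iff hM hB j.2).1 hJ⟩
  have hmoved : ∀ B, Adj V Z B R → ∀ b ∈ B, b ≠ 1 → ∃ X, Adj V Z X R ∧ ∃ u ∈ UT V Z R X, u * b ≠ b * u := by
    intro B hB b hb hb1
    obtain ⟨X, hX, ⟨g, hg, hmv⟩, -⟩ := hjoin B hB
    exact ⟨X, hX, g, hg, h.mv_all hX hB hg hmv hb hb1⟩
  by_cases hα1 : α = 1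
  · subst hα1
    by_cases hγ1 : γ = 1
    · rw [hγ1, one_mul]; exact one_mem _
    · exfalso
      obtain ⟨X, hX, u, huX, hne⟩ := hmoved C hC γ hγ hγ1
      have := hu X hX u huX
      rw [one_mul] at this
      exact hne this
  by_cases hγ1 : γ = 1
  · subst hγ1
    exfalso
    obtain ⟨X, hX, u, huX, hne⟩ := hmoved A hA α hα hα1
    have := hu X hX u huX
    rw [mul_one] at this
    exact hne this
  -- (i)
  have hi : ∀ X, Adj V Z X R → ∀ g ∈ UT V Z R X, g * γ = γ * g → g * α = α * g := by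
    intro X hX g hg h1
    have h2 := hu X hX g hg
    have h3 : g * α * γ = α * g * γ := by
      rw [mul_assoc, h2, mul_assoc, mul_assoc, ← h1]
    exact mul_right_cancel h3
  -- (ii)
  obtain ⟨X, hX, ⟨g₀, hg₀, hg₀A⟩, ⟨g₁, hg₁, hg₁X⟩⟩ := hjoin A hA
  have hg₀C : ∃ c ∈ C, g₀ * c ≠ c * g₀ := by
    refine ⟨γ, hγ, fun e => ?_⟩
    exact h.mv_all hX hA hg₀ hg₀A hα hα1 (hi X hX g₀ hg₀ e)
  obtain ⟨g₂, hg₂, hg₂X⟩ := (h.jj_iff hM hC hX).1 (h0.symm ((h.jj_iff hM hX hC).2 ⟨g₀, hg₀, hg₀C⟩))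
  obtain ⟨ξ, hξ, hξ1⟩ := h.pt_ne_bot hX.left
  have hξW : ξ ∈ ws V R := h.adj_le_ws hX.symm hξ
  obtain ⟨τ, hτ, hτξ⟩ := h.ut_val hA hξW ⟨g₁, hg₁, h.mv_all hA hX hg₁ hg₁X hξ hξ1⟩ hα
  obtain ⟨τ', hτ', hτξ'⟩ := h.ut_val hC hξW ⟨g₂, hg₂, h.mv_all hC hX hg₂ hg₂X hξ hξ1⟩ hγ
  have hτ'γ : τ' * γ = γ * τ' := h.u_A hC hτ' hγ
  have hτ'α := hi C hC τ' hτ' hτ'γ
  -- `t = τ' τ`
  set u0 := α * γ with hu0
  have hαγ : α * γ = γ * α := h.ws_comm hR hαW hγW
  have hu0W : u0 ∈ ws V R := mul_mem hαW hγW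
  have hu0sq : u0 * u0 = 1 := h.ws_sq hR hu0W
  have ht1 : (τ' * τ) * ξ * (τ' * τ)⁻¹ = u0 * ξ := by
    have h1 : τ * ξ * τ⁻¹ = α * ξ := by rw [← hτξ]; group
    have h2 : τ' * ξ * τ'⁻¹ = γ * ξ := by rw [← hτξ']; group
    calc (τ' * τ) * ξ * (τ' * τ)⁻¹ = τ' * (τ * ξ * τ⁻¹) * τ'⁻¹ := by group
      _ = τ' * α * τ'⁻¹ * (τ' * ξ * τ'⁻¹) := by rw [h1]; group
      _ = α * (γ * ξ) := by rw [hτ'α, mul_inv_cancel_right, h2]
      _ = u0 * ξ := by rw [hu0, mul_assoc]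
  have hUR : ∀ {Y u}, Adj V Z Y R → u ∈ UT V Z R Y → u ∈ centralizer (R : Set G) := fun hY hu =>
    h.UU_le_cent_adj hY.symm (UT_le_UU hu)
  have htR : τ' * τ ∈ centralizer (R : Set G) := mul_mem (hUR hC hτ') (hUR hA hτ)
  -- `R0`
  let R0 : Subgroup G :=
    { carrier := {w | w ∈ ws V R ∧ ∀ Y, Adj V Z Y R → ∀ u ∈ UT V Z R Y, u * w = w * u}
      one_mem' := ⟨one_mem _, fun _ _ u _ => by rw [mul_one, one_mul]⟩
      mul_mem' := by
        rintro a b ⟨ha, ha'⟩ ⟨hb, hb'⟩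
        exact ⟨mul_mem ha hb, fun Y hY u hu => by rw [← mul_assoc, ha' Y hY u hu, mul_assoc, hb' Y hY u hu, mul_assoc]⟩
      inv_mem' := by
        rintro a ⟨ha, ha'⟩
        exact ⟨inv_mem ha, fun Y hY u hu => by
          rw [mul_inv_eq_iff_eq_mul, mul_assoc, ha' Y hY u hu, inv_mul_cancel_left]⟩ }
  have hR0W : R0 ≤ ws V R := fun w hw => hw.1
  have hR0N : ∀ g ∈ centralizer (R : Set G), ∀ w ∈ R0, g * w * g⁻¹ ∈ R0 := by
    intro g hg w hw
    have hgR' : PT.cj g⁻¹ R = R := cj_eq_iff.2 (centralizer_le_normalizer _ (inv_mem hg))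
    refine ⟨(mem_normalizer_iff.1 (normalizer_le_ws V R (centralizer_le_normalizer _ hg)) w).1 hw.1,
      fun Y hY u hu => ?_⟩
    have h1 : Adj V Z (PT.cj g⁻¹ Y) R := by
      have h2 := hY.cj g⁻¹
      rwa [hgR'] at h2
    have h3 : g⁻¹ * u * g ∈ UT V Z R (PT.cj g⁻¹ Y) := by
      have h4 := UT_cj V Z R Y g⁻¹
      rw [hgR'] at h4
      rw [h4]
      have := conj_mem_cj (g := g⁻¹) hu
      rwa [inv_inv] at this
    have h4 := hw.2 _ h1 _ h3
    calc u * (g * w * g⁻¹) = g * ((g⁻¹ * u * g) * w) * g⁻¹ := by group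
      _ = g * w * g⁻¹ * u := by rw [h4]; group
  have hu0R0 : u0 ∈ R0 := ⟨hu0W, hu⟩
  -- `E`
  let E : Subgroup G :=
    { carrier := {g | g ∈ centralizer (R : Set G) ∧ g * ξ * g⁻¹ * ξ⁻¹ ∈ R0}
      one_mem' := ⟨one_mem _, by simp only [one_mul, inv_one, mul_one, mul_inv_cancel]; exact one_mem _⟩
      mul_mem' := by
        rintro a b ⟨ha, ha'⟩ ⟨hb, hb'⟩
        refine ⟨mul_mem ha hb, ?_⟩
        have e : a * b * ξ * (a * b)⁻¹ * ξ⁻¹ = a * (b * ξ * b⁻¹ * ξ⁻¹) * a⁻¹ * (a * ξ * a⁻¹ * ξ⁻¹) := by group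
        rw [e]
        exact mul_mem (hR0N a ha _ hb') ha'
      inv_mem' := by
        rintro a ⟨ha, ha'⟩
        refine ⟨inv_mem ha, ?_⟩
        have e : a⁻¹ * ξ * a⁻¹⁻¹ * ξ⁻¹ = a⁻¹ * (a * ξ * a⁻¹ * ξ⁻¹)⁻¹ * a⁻¹⁻¹ := by group
        rw [e]
        exact hR0N a⁻¹ (inv_mem ha) _ (inv_mem ha') }
  -- an odd power
  obtain ⟨m, hm, ht2⟩ := exists_odd_pow (τ' * τ)
  set t := (τ' * τ) ^ m with ht
  have hcomm0 : ∀ w ∈ R0, (τ' * τ) * w = w * (τ' * τ) := fun w hw => by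
    rw [mul_assoc, hw.2 A hA τ hτ, ← mul_assoc, hw.2 C hC τ' hτ', mul_assoc]
  have hcomm : ∀ w ∈ R0, t * w = w * t := fun w hw =>
    (Commute.pow_left (hcomm0 w hw : Commute (τ' * τ) w) m).eq
  have hpow : ∀ n : ℕ, (τ' * τ) ^ n * ξ * ((τ' * τ) ^ n)⁻¹ = u0 ^ n * ξ := by
    intro n
    induction n with
    | zero => simp
    | succ n ih =>
      have h1 : (τ' * τ) * u0 ^ n = u0 ^ n * (τ' * τ) :=
        (Commute.pow_right (hcomm0 u0 hu0R0 : Commute (τ' * τ) u0) n).eq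
      calc (τ' * τ) ^ (n + 1) * ξ * ((τ' * τ) ^ (n + 1))⁻¹
          = (τ' * τ) * ((τ' * τ) ^ n * ξ * ((τ' * τ) ^ n)⁻¹) * (τ' * τ)⁻¹ := by
            rw [pow_succ' (τ' * τ) n, mul_inv_rev]
            simp only [mul_assoc]
        _ = (τ' * τ) * u0 ^ n * ξ * (τ' * τ)⁻¹ := by rw [ih]; simp only [mul_assoc]
        _ = u0 ^ n * ((τ' * τ) * ξ * (τ' * τ)⁻¹) := by rw [h1]; simp only [mul_assoc]
        _ = u0 ^ (n + 1) * ξ := by rw [ht1, pow_succ]; simp only [mul_assoc]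
  have htξ : t * ξ * t⁻¹ = u0 * ξ := by
    rw [ht, hpow m]
    obtain ⟨k, hk⟩ := hm
    rw [hk, pow_succ, pow_mul, pow_two, hu0sq, one_pow, one_mul]
  have htE : t ∈ E := by
    refine ⟨pow_mem htR m, ?_⟩
    rw [htξ, mul_inv_cancel_right]
    exact hu0R0
  -- the flag
  obtain ⟨L, hL, hXL, hRL⟩ := hX.line
  obtain ⟨T, Q, h'⟩ := h.flag hR hL hRL
  have hT0E : (T : Subgroup G) ⊓ centralizer (R : Set G) ≤ E := by
    intro s hs
    refine ⟨hs.2, ?_⟩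
    have h1 := h'.pl.act s hs ξ (hXL hξ)
    exact ⟨h.pt_le_ws hR h1, fun Y hY u hu => h.u_R hY hu h1⟩
  obtain ⟨e, he, heT⟩ := exists_conj_of_max (T.isPGroup'.to_le inf_le_left) hT0E (fun D hD hDE => by
    obtain ⟨m, -, hm⟩ := h'.pl.exists_le_conjB (H := normalizer (R : Set G)) h'.pl.SN le_rfl hD
      (fun d hd => centralizer_le_normalizer _ (hDE hd).1) (fun d hd => (hDE hd).1)
    exact (Subgroup.card_le_of_le hm).trans (card_cj m _).le) ht2 htE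
  -- `w = [e, ξ]`
  set w := e * ξ * e⁻¹ * ξ⁻¹ with hw
  have hwR0 : w ∈ R0 := he.2
  have h1 := h'.pl.act _ heT ξ (hXL hξ)
  have h2 : e * ((e⁻¹ * t * e) * ξ * (e⁻¹ * t * e)⁻¹ * ξ⁻¹) * e⁻¹ ∈ R := by
    rw [← mem_centralizer_iff.1 he.1 _ h1, mul_inv_cancel_right]
    exact h1
  have h3 : e * ((e⁻¹ * t * e) * ξ * (e⁻¹ * t * e)⁻¹ * ξ⁻¹) * e⁻¹ = u0 := by
    have h4 : e * ξ * e⁻¹ = w * ξ := by rw [hw]; group
    have h5 : w * u0 = u0 * w := h.ws_comm hR (hR0W hwR0) hu0W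
    calc e * ((e⁻¹ * t * e) * ξ * (e⁻¹ * t * e)⁻¹ * ξ⁻¹) * e⁻¹
        = t * (e * ξ * e⁻¹) * t⁻¹ * (e * ξ * e⁻¹)⁻¹ := by group
      _ = t * w * ξ * t⁻¹ * (w * ξ)⁻¹ := by rw [h4]; group
      _ = w * (t * ξ * t⁻¹) * ξ⁻¹ * w⁻¹ := by rw [hcomm w hwR0]; group
      _ = w * u0 * w⁻¹ := by rw [htξ]; group
      _ = u0 := by rw [h5, mul_inv_cancel_right]
  rwa [h3] at h2

/-- **`Dist`** -/
theorem distT (hM : Md V R π) : Dist (fun i : {A // Adj V Z A R} => lamR π i.1) (fun i => PhiT V Z R π i.1) := by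
  rintro ⟨A, hA⟩ ⟨B, hB⟩ a ha b hb hk
  obtain ⟨α, hα, rfl⟩ := (h.mem_lam hM hA).1 ha
  obtain ⟨β, hβ, rfl⟩ := (h.mem_lam hM hB).1 hb
  have h1 := h.adj_ws hA hα
  have h2 := h.adj_ws hB hβ
  rw [← hM.mul _ h1 _ h2, hM.ker _ (mul_mem h1 h2)]
  refine h.dist_grp hA hB hα hβ fun X hX u hu => ?_
  obtain ⟨φ, hφ, e⟩ := h.exists_phi hM hX hu
  have h3 := hk ⟨X, hX⟩ φ hφ
  rw [← hM.mul _ h1 _ h2] at h3
  exact (h.phi_zero_iff hM hX hu e (mul_mem h1 h2)).1 h3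

/-- `[W_C, W_R] ≤ L`, `L` the line on `A`, `R`, `C ~ A` -/
theorem disp_line' (hM : Md V R π) (hB : McL.Big (fun i : {A // Adj V Z A R} => lamR π i.1) (fun i => PhiT V Z R π i.1))
    (hA : Adj V Z A R) (hC : Adj V Z C A) (hL : IsCj V L) (hAL : A ≤ L) (hRL : R ≤ L) {f w : G}
    (hf : f ∈ ws V C) (hw : w ∈ ws V R) : f * w * f⁻¹ * w⁻¹ ∈ L := by
  have hR := hA.right
  have hfU : f ∈ UU V Z A := le_UU hC hf
  have hfR : f ∈ centralizer (R : Set G) := h.UU_le_cent_adj hA.symm hfU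
  have hcR : PT.cj f R = R := h.cj_UU_adj hfU hA
  obtain ⟨ν, hν⟩ := exists_conj_end hM hcR
  have hact := h.act hM hA hC hf hν
  have hLW : L ≤ ws V R := h.line_le hL hRL
  have hcW : ∀ {w : G}, w ∈ ws V R → f * w * f⁻¹ * w⁻¹ ∈ ws V R := fun hw => mul_mem (conj_ws hcR hw) (inv_mem hw)
  let K : Subgroup G :=
    { carrier := {w | w ∈ ws V R ∧ f * w * f⁻¹ * w⁻¹ ∈ L}
      one_mem' := ⟨one_mem _, by simp⟩
      mul_mem' := by
        rintro a b ⟨ha, ha'⟩ ⟨hb, hb'⟩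
        refine ⟨mul_mem ha hb, ?_⟩
        have h1 := h.ws_comm hR ha (hcW hb)
        have e : f * (a * b) * f⁻¹ * (a * b)⁻¹ = f * a * f⁻¹ * a⁻¹ * (f * b * f⁻¹ * b⁻¹) := by
          calc f * (a * b) * f⁻¹ * (a * b)⁻¹ = f * a * f⁻¹ * a⁻¹ * (a * (f * b * f⁻¹ * b⁻¹)) * a⁻¹ := by group
            _ = _ := by rw [h1]; group
        rw [e]
        exact mul_mem ha' hb'
      inv_mem' := by
        rintro a ⟨ha, ha'⟩
        refine ⟨inv_mem ha, ?_⟩
        have h1 := h.ws_comm hR (inv_mem ha) (inv_mem (hcW ha))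
        have e : f * a⁻¹ * f⁻¹ * a⁻¹⁻¹ = (f * a * f⁻¹ * a⁻¹)⁻¹ := by
          calc f * a⁻¹ * f⁻¹ * a⁻¹⁻¹ = a⁻¹ * (f * a * f⁻¹ * a⁻¹)⁻¹ * a := by group
            _ = _ := by rw [h1]; group
        rw [e]
        exact inv_mem ha' }
  have hK : ws V R ≤ K := by
    refine h.ws_le_of hR (fun r hr => ⟨h.pt_le_ws hR hr, ?_⟩) (fun B hB' b hb => ⟨h.adj_ws hB' hb, ?_⟩)
    · rw [← mem_centralizer_iff.1 hfR r hr]
      simp
    · have hbW := h.adj_ws hB' hb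
      have h1 := (h.mcl hM hR).disp hB (h.distT hM) hact ⟨B, hB'⟩ (h.pi_mem hM hB' hb)
      have h2 : ν (π b) + π b = π (f * b * f⁻¹ * b⁻¹) := by
        rw [hν b hbW, hM.mul _ (conj_ws hcR hbW) _ (inv_mem hbW), h.ws_inv hR hbW]
      rw [h2] at h1
      obtain ⟨a, ha, e⟩ := (h.mem_lam hM hA).1 h1
      have h3 : f * b * f⁻¹ * b⁻¹ * a⁻¹ ∈ R := hM.mem_of (hcW hbW) (h.adj_ws hA ha) e.symm
      have e3 : f * b * f⁻¹ * b⁻¹ = f * b * f⁻¹ * b⁻¹ * a⁻¹ * a := by group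
      rw [e3]
      exact mul_mem (hRL h3) (hAL ha)
  exact (hK hw).2

end TT

end Cfsg.Agent.Omega.NO3S.MidB.No

namespace Cfsg.Agent.Omega.NO3S.MidB

open Subgroup Cfsg.Agent.Omega.NO3S.PT Cfsg.Agent.Omega.NoFF.Basic Cfsg.Agent.ZN Cfsg.Agent.Omega.NO3S.MidB.No
open Cfsg.Agent.Omega.NO3S.MidQ (Adj Com Cr UU TypN)

variable {G : Type*} [Group G] [Finite G] {S : Sylow 2 G} {P V Z C A R : Subgroup G}

/-- **TYPE N from one flat critical triple** (no hypothesis on `W_R / R`) -/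
theorem Mid.typN_of_flat' (h : Mid S P V Z) (hc : Cr V Z C A R)
    (hi : ∀ a ∈ ws V C, ∀ b ∈ ws V R, a * b * a⁻¹ * b⁻¹ ∈ A) {w m : G} (hw : w ∈ ws V C) (hm : m ∈ ws V R)
    (hwm : w * m = m * w) (hw' : ∃ b ∈ ws V R, w * b ≠ b * w) (hm' : ∃ a ∈ ws V C, a * m ≠ m * a) : TypN V Z := by
  have hT : TT S P V Z := ⟨h, C, A, R, hc, hi⟩
  -- `[W_D, W_X] ≤ L` for every `D ~ Y ~ X`, `L` the line on `Y`, `X`
  have key : ∀ X Y D L : Subgroup G, Adj V Z Y X → Adj V Z D Y → IsCj V L → Y ≤ L → X ≤ L → ∀ f ∈ ws V D,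
      ∀ x ∈ ws V X, f * x * f⁻¹ * x⁻¹ ∈ L := by
    intro X Y D L hYX hDY hL hYL hXL f hf x hx
    obtain ⟨g, hg⟩ : ∃ g : G, PT.cj g R = X := by
      obtain ⟨a, ha⟩ := hc.r.right
      obtain ⟨b, hb⟩ := hYX.right
      exact ⟨b * a⁻¹, by rw [ha, hb, cj_cj, inv_mul_cancel_right]⟩
    obtain ⟨M, _, π, hM⟩ := exists_md h hYX.right
    have hc' := hc.cj g
    have hi' : Flat V (PT.cj g C) (PT.cj g A) (PT.cj g R) := Flat.cj hi g
    rw [hg] at hc' hi'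
    have hcw : ∀ {K : Subgroup G} {y : G}, y ∈ ws V K → g * y * g⁻¹ ∈ ws V (PT.cj g K) := fun hy => by
      rw [ws_cj]
      exact conj_mem_cj hy
    have hmX : g * m * g⁻¹ ∈ ws V X := by
      have := hcw hm
      rwa [hg] at this
    refine hT.disp_line' hM (hT.big hM hc' hi' (hcw hw) hmX ?_ ?_ ?_) hYX hDY hL hYL hXL hf hx
    · calc g * w * g⁻¹ * (g * m * g⁻¹) = g * (w * m) * g⁻¹ := by group
        _ = g * m * g⁻¹ * (g * w * g⁻¹) := by rw [hwm]; group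
    · obtain ⟨b, hb, hne⟩ := hw'
      refine ⟨g * b * g⁻¹, ?_, fun e => hne ?_⟩
      · have := hcw hb
        rwa [hg] at this
      · have h3 := congrArg (fun t => g⁻¹ * t * g) e
        simpa [mul_assoc] using h3
    · obtain ⟨a, ha, hne⟩ := hm'
      refine ⟨g * a * g⁻¹, hcw ha, fun e => hne ?_⟩
      have h3 := congrArg (fun t => g⁻¹ * t * g) e
      simpa [mul_assoc] using h3
  intro X R' Y hcr a ha b hb
  obtain ⟨L, hL, hXL, hRL⟩ := hcr.l.line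
  obtain ⟨L', hL', hRL', hYL'⟩ := hcr.r.line
  have hne : L ≠ L' := by
    rintro rfl
    exact h.cr_not_le hcr hL hYL' hXL
  -- centre `Y`: `[W_X, W_Y] ≤ L'`
  have h1 := key Y R' X L' hcr.r hcr.l hL' hRL' hYL' a ha b hb
  -- centre `X`
  have h2 := key X R' Y L hcr.l.symm hcr.r.symm hL hRL hXL b hb a ha
  have h3 : a * b * a⁻¹ * b⁻¹ ∈ L := by
    have e : a * b * a⁻¹ * b⁻¹ = (b * a * b⁻¹ * a⁻¹)⁻¹ := by group
    rw [e]
    exact inv_mem h2
  exact hT.inf_lines hcr.l.right hL hL' hRL hRL' hne h3 h1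

end Cfsg.Agent.Omega.NO3S.MidB

end

section


/-!
# NO-3S, natural lines, critical distance 2: movers (bb OMEGA #20170 (D))

* `o2_le_kx` : a normal 2-subgroup of `C_G(X)` lies in `K_X` (`O₂(C_G(X)/K_X) = 1`);
* `UU_le_o2_line` : `U_R ≤ O₂(C_G(L))` for the lines `L` on `R`;
* `not_line` : an odd element `k ≠ 1` inverted by `f ∈ O₂(C_G(L))` moves `L`;
* `exists_mv` : `f ∈ W_B - C(W_A)` has a mover `k`: `Mv V Z A R B f k`;
* `Mv.pow`, `Mv.swap`, `Mv.inv'`, `Mv.pow_ne_one`, `Mv.mv_iff`.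
-/

set_option autoImplicit false
set_option linter.unusedSectionVars false

namespace Cfsg.Agent.Omega.NO3S.MidB.No

open Subgroup Cfsg.Agent.Omega.NO3S.PT Cfsg.Agent.Omega.NoFF.Basic Cfsg.Agent.ZN
open Cfsg.Agent.Omega.NO3S.MidQ (Adj Com Cr UU isCj_iff le_UU normalizer_le_UU)
open Cfsg.Agent.MinSimple.VModule (le_o2 o2_isPGroup)
open scoped Pointwise

variable {G : Type*} [Group G]

/-! ### Elements of odd order inverted by `f` -/

/-- an element of odd order is a power of its square -/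
theorem mov_sq {h : G} (ho : Odd (orderOf h)) : ∃ k : ℕ, (h * h) ^ k = h := by
  obtain ⟨k, hk⟩ := ho
  refine ⟨k + 1, ?_⟩
  rw [← pow_two, ← pow_mul, show 2 * (k + 1) = orderOf h + 1 by omega, pow_succ, pow_orderOf_eq_one, one_mul]

theorem mov_mem {h : G} (ho : Odd (orderOf h)) {N : Subgroup G} (h2 : h * h ∈ N) : h ∈ N := by
  obtain ⟨k, hk⟩ := mov_sq ho
  rw [← hk]
  exact pow_mem h2 k

theorem mov_inv {f h : G} (hi : f * h * f⁻¹ = h⁻¹) : f * h⁻¹ * f⁻¹ = h := by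
  have := congrArg (fun x => x⁻¹) hi
  simpa [mul_assoc] using this

/-- `h f h⁻¹ f⁻¹ = h²` if `f` inverts `h` -/
theorem mov_conj {f h : G} (hi : f * h * f⁻¹ = h⁻¹) : h * f * h⁻¹ * f⁻¹ = h * h := by
  calc h * f * h⁻¹ * f⁻¹ = h * (f * h⁻¹ * f⁻¹) := by group
    _ = h * h := by rw [mov_inv hi]

theorem mov_pow {f h : G} (hi : f * h * f⁻¹ = h⁻¹) (i : ℕ) : f * h ^ i * f⁻¹ = (h ^ i)⁻¹ := by
  rw [← conj_pow, hi, inv_pow]

theorem mov_odd {h : G} (ho : Odd (orderOf h)) (i : ℕ) : Odd (orderOf (h ^ i)) :=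
  Odd.of_dvd_nat ho (orderOf_pow_dvd i)

/-- a 2-element of odd order is trivial -/
theorem mov_one {h : G} (ho : Odd (orderOf h)) {N : Subgroup G} (hN : IsPGroup 2 N) (h1 : h ∈ N) : h = 1 := by
  obtain ⟨k, hk⟩ := hN ⟨h, h1⟩
  have hk' : h ^ 2 ^ k = 1 := congrArg Subtype.val hk
  have h4 : orderOf h ∣ 2 ^ k := orderOf_dvd_of_pow_eq_one hk'
  have h5 : Nat.Coprime (orderOf h) (2 ^ k) := Nat.Coprime.pow_right _ (Nat.coprime_two_right.2 ho)
  exact orderOf_eq_one_iff.1 (Nat.eq_one_of_dvd_coprimes h5 dvd_rfl h4)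

theorem mov_norm_cent {A : Subgroup G} :
    normalizer (A : Set G) ≤ normalizer ((centralizer (A : Set G) : Subgroup G) : Set G) := by
  intro g hg
  rw [mem_normalizer_iff]
  have key : ∀ g ∈ normalizer (A : Set G), ∀ a ∈ centralizer (A : Set G), g * a * g⁻¹ ∈ centralizer (A : Set G) := by
    intro g hg a ha
    rw [mem_centralizer_iff] at ha ⊢
    intro w hw
    have hw' : g⁻¹ * w * g ∈ A := by
      have := (mem_normalizer_iff.1 (inv_mem hg) w).1 hw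
      rwa [inv_inv] at this
    have h3 := ha _ hw'
    calc w * (g * a * g⁻¹) = g * (g⁻¹ * w * g * a) * g⁻¹ := by group
      _ = g * (a * (g⁻¹ * w * g)) * g⁻¹ := by rw [h3]
      _ = g * a * g⁻¹ * w := by group
  intro x
  refine ⟨key g hg x, fun hx => ?_⟩
  have := key g⁻¹ (inv_mem hg) _ hx
  have e : g⁻¹ * (g * x * g⁻¹) * g⁻¹⁻¹ = x := by group
  rwa [e] at this

/-- an odd element `k ≠ 1` inverted by `f ∈ O₂(C_G(L))` does not normalise `L` -/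
theorem not_line [Finite G] {L : Subgroup G} {f k : G} (hf : f ∈ o2 (centralizer (L : Set G)))
    (ho : Odd (orderOf k)) (hi : f * k * f⁻¹ = k⁻¹) (h1 : k ≠ 1) : cj k L ≠ L := by
  intro hL
  have : Fact (Nat.Prime 2) := ⟨Nat.prime_two⟩
  have hn : k ∈ normalizer (L : Set G) := cj_eq_iff.1 hL
  have hN : normalizer (L : Set G) ≤ normalizer ((o2 (centralizer (L : Set G)) : Subgroup G) : Set G) :=
    mov_norm_cent.trans (Omega.normalizer_le_normalizer_o2' _)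
  have h2 : k * f * k⁻¹ * f⁻¹ ∈ o2 (centralizer (L : Set G)) :=
    mul_mem ((mem_normalizer_iff.1 (hN hn) f).1 hf) (inv_mem hf)
  rw [mov_conj hi] at h2
  exact h1 (mov_one ho (o2_isPGroup _) (mov_mem ho h2))

variable [Finite G] {S : Sylow 2 G} {P V Z X Y R A B L : Subgroup G}

/-- **`O₂(C_G(X)/K_X) = 1`** : a normal 2-subgroup of `C_G(X)` lies in `K_X` -/
theorem o2_le_kx (h : Mid S P V Z) (hX : IsCj Z X) {N : Subgroup G} (hN : IsPGroup 2 N)
    (hNX : N ≤ centralizer (X : Set G)) (hn : centralizer (X : Set G) ≤ normalizer (N : Set G)) : N ≤ kx V X := by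
  intro q hq
  refine mem_kx.2 ⟨fun x hx => (mem_centralizer_iff.1 (hNX hq) x hx).symm, ?_⟩
  -- `{w ∈ C_G(X) | [q, w] ∈ X}`
  let D : Subgroup G :=
    { carrier := {w | w ∈ centralizer (X : Set G) ∧ q * w * q⁻¹ * w⁻¹ ∈ X}
      one_mem' := ⟨one_mem _, by
        have : q * 1 * q⁻¹ * 1⁻¹ = 1 := by group
        rw [this]; exact one_mem _⟩
      mul_mem' := by
        rintro a b ⟨ha, ha1⟩ ⟨hb, hb1⟩
        refine ⟨mul_mem ha hb, ?_⟩
        have h1 := mem_centralizer_iff.1 ha _ hb1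
        have e : q * (a * b) * q⁻¹ * (a * b)⁻¹ = (q * a * q⁻¹ * a⁻¹) * (a * (q * b * q⁻¹ * b⁻¹) * a⁻¹) := by group
        rw [e, ← h1, mul_inv_cancel_right]
        exact mul_mem ha1 hb1
      inv_mem' := by
        rintro a ⟨ha, ha1⟩
        refine ⟨inv_mem ha, ?_⟩
        have h1 := mem_centralizer_iff.1 (inv_mem ha) _ (inv_mem ha1)
        have e : q * a⁻¹ * q⁻¹ * a⁻¹⁻¹ = a⁻¹ * (q * a * q⁻¹ * a⁻¹)⁻¹ * a⁻¹⁻¹ := by group
        rw [e, ← h1, mul_inv_cancel_right]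
        exact inv_mem ha1 }
  have hD : ws V X ≤ D := by
    refine ws_le fun L hL hXL => ?_
    obtain ⟨T, Q, h'⟩ := h.flag hX hL hXL
    have hB := h'.pl.B_le
    obtain ⟨m, hm, hle⟩ := h'.pl.exists_le_conj (H := centralizer (X : Set G)) hB le_rfl hN hNX
    have hNB : N ≤ (T : Subgroup G) ⊓ centralizer (X : Set G) := by
      have h1 := cj_eq_iff.2 (hn hm)
      rw [← h1] at hle
      exact cj_le_cj.1 hle
    intro v hv
    refine ⟨mem_centralizer_iff.2 fun x hx => h'.pl.Vcomm (hXL hx) hv, ?_⟩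
    exact h'.pl.act q (hNB hq) v hv
  exact fun w hw => (hD hw).2

/-- `U_R ≤ O₂(C_G(L))` for the lines `L` on `R` -/
theorem UU_le_o2_line (h : Mid S P V Z) (hL : IsCj V L) (hRL : R ≤ L) :
    UU V Z R ≤ o2 (centralizer (L : Set G)) := by
  have h1 : UU V Z R ≤ centralizer (L : Set G) :=
    (h.UU_le_centralizer R).trans (centralizer_le (le_ws hL hRL))
  refine le_o2 h1 (h.isPGroup_UU R) ?_
  exact (centralizer_le hRL).trans ((centralizer_le_normalizer _).trans (normalizer_le_UU V Z R))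

/-- **existence of movers** -/
theorem exists_mv (h : Mid S P V Z) (hc : Cr V Z A R B) {f : G} (hf : f ∈ ws V B)
    (hn : ¬ ∀ x ∈ ws V A, f * x = x * f) : ∃ k, Mv V Z A R B f k := by
  have : Fact (Nat.Prime 2) := ⟨Nat.prime_two⟩
  have hA := hc.l.left
  have hff : f * f = 1 := h.ws_sq hc.r.right hf
  have hfA : f ∈ centralizer (A : Set G) := h.ws_le_cent hc.r.symm hc.l.symm hf
  -- `f` is in no normal 2-subgroup of `C_G(A)`
  let C : Subgroup G := centralizer (A : Set G)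
  obtain ⟨k, hk1, hko, hki⟩ := Cfsg.Agent.Involutions.BaerSuzuki.exists_odd_inverted (G := C) ⟨f, hfA⟩
    (Subtype.ext hff) (by
      intro hP
      have hmap : IsPGroup 2 ((normalClosure {(⟨f, hfA⟩ : C)} : Subgroup C).map C.subtype) := hP.map _
      have hle : (normalClosure {(⟨f, hfA⟩ : C)} : Subgroup C).map C.subtype ≤ kx V A := by
        refine o2_le_kx h hA hmap (by
          rintro _ ⟨x, -, rfl⟩
          exact x.2) ?_
        intro c hc'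
        have key : ∀ c ∈ C, ∀ x ∈ (normalClosure {(⟨f, hfA⟩ : C)} : Subgroup C).map C.subtype,
            c * x * c⁻¹ ∈ (normalClosure {(⟨f, hfA⟩ : C)} : Subgroup C).map C.subtype := by
          rintro c hc' _ ⟨x, hx, rfl⟩
          refine ⟨⟨c, hc'⟩ * x * ⟨c, hc'⟩⁻¹, ?_, rfl⟩
          exact (inferInstance : (normalClosure {(⟨f, hfA⟩ : C)} : Subgroup C).Normal).conj_mem x hx _
        rw [mem_normalizer_iff]
        refine fun x => ⟨key c hc' x, fun hx => ?_⟩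
        have := key c⁻¹ (inv_mem hc') _ hx
        have e : c⁻¹ * (c * x * c⁻¹) * c⁻¹⁻¹ = x := by group
        rwa [e] at this
      have hfk : f ∈ kx V A := hle ⟨⟨f, hfA⟩, subset_normalClosure rfl, rfl⟩
      exact hn (h.cent_of_mod hc hf (mem_kx.1 hfk).2))
  have hki' : f * (k : G) * f⁻¹ = (k : G)⁻¹ := congrArg Subtype.val hki
  have hko' : Odd (orderOf (k : G)) := by rwa [Subgroup.orderOf_coe]
  refine ⟨k, hc, hf, hn, fun x hx => (mem_centralizer_iff.1 k.2 x hx).symm, hko', fun e => hk1 (Subtype.ext e), hki', ?_⟩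
  intro i hi L hL _ hRL
  exact not_line (UU_le_o2_line h hL hRL (le_UU hc.r.symm hf)) (mov_odd hko' i) (mov_pow hki' i) hi

/-! ### API for `Mv` -/

namespace Mv

variable {f k : G}

omit [Finite G] in
/-- the powers of a mover -/
theorem pow (m : Mv V Z A R B f k) {i : ℕ} (hi : k ^ i ≠ 1) : Mv V Z A R B f (k ^ i) where
  cr := m.cr
  mem := m.mem
  ncent := m.ncent
  cent x hx := by
    have h1 : Commute k x := m.cent x hx
    exact (h1.pow_left i).eq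
  odd := mov_odd m.odd i
  ne := hi
  inv := mov_pow m.inv i
  mv j hj L hL hA hR := by
    rw [← pow_mul] at hj ⊢
    exact m.mv _ hj L hL hA hR

omit [Finite G] in
/-- the square of a mover is a mover -/
theorem sq_ne (m : Mv V Z A R B f k) : k * k ≠ 1 := by
  intro h1
  obtain ⟨j, hj⟩ := mov_sq m.odd
  rw [h1, one_pow] at hj
  exact m.ne hj.symm

omit [Finite G] in
theorem sq (m : Mv V Z A R B f k) : Mv V Z A R B f (k * k) := by
  have h1 := m.pow (i := 2) (by rw [pow_two]; exact m.sq_ne)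
  rwa [pow_two] at h1

omit [Finite G] in
/-- the inverse of a mover -/
theorem symm (m : Mv V Z A R B f k) : Mv V Z A R B f k⁻¹ where
  cr := m.cr
  mem := m.mem
  ncent := m.ncent
  cent x hx := by
    have h1 : Commute k x := m.cent x hx
    exact h1.inv_left.eq
  odd := by rw [orderOf_inv]; exact m.odd
  ne := inv_ne_one.2 m.ne
  inv := by rw [mov_inv m.inv, inv_inv]
  mv i hi L hL hA hR := by
    intro e
    rw [inv_pow] at hi e
    refine m.mv i (fun e' => hi (by rw [e', inv_one])) L hL hA hR ?_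
    rw [cj_eq_iff] at e ⊢
    have := inv_mem e
    rwa [inv_inv] at this

omit [Finite G] in
/-- every mover has a square root among its powers -/
theorem exists_sqrt (m : Mv V Z A R B f k) : ∃ i, Mv V Z A R B f (k ^ i) ∧ k ^ i * k ^ i = k := by
  obtain ⟨j, hj⟩ := mov_sq m.odd
  refine ⟨j, m.pow (fun e => ?_), ?_⟩
  · apply m.ne
    rw [← hj, ← pow_two, ← pow_mul, mul_comm, pow_mul, e, one_pow]
  · rw [← pow_add, ← two_mul, pow_mul, pow_two, hj]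

omit [Finite G] in
/-- `k` fixes `A` -/
theorem cj_A (m : Mv V Z A R B f k) : cj k A = A :=
  cj_eq_iff.2 (centralizer_le_normalizer _ (mem_centralizer_iff.2 fun x hx => (m.cent x hx).symm))

omit [Finite G] in
/-- `A ~ R^k` -/
theorem adj (m : Mv V Z A R B f k) : Adj V Z A (cj k R) := by
  obtain ⟨h1, h2, h3, L, h4, h5, h6⟩ := m.cr.l
  refine ⟨h1, h2.cj k, fun e => h3 ?_, cj k L, h4.cj k, ?_, cj_le_cj.2 h6⟩
  · rw [← m.cj_A] at e
    exact cj_inj.1 e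
  · rw [← m.cj_A]; exact cj_le_cj.2 h5

omit [Finite G] in
/-- `R^k ≠ R` -/
theorem cj_ne (m : Mv V Z A R B f k) (hu : ∀ L M, IsCj V L → IsCj V M → A ≤ L → R ≤ L → A ≤ M → R ≤ M → L = M) :
    cj k R ≠ R := by
  intro e
  obtain ⟨L, h4, h5, h6⟩ := m.cr.l.line
  refine m.mv 1 (by rw [pow_one]; exact m.ne) L h4 h5 h6 ?_
  rw [pow_one]
  refine hu _ _ (h4.cj k) h4 ?_ ?_ h5 h6
  · rw [← m.cj_A]; exact cj_le_cj.2 h5
  · rw [← e]; exact cj_le_cj.2 h6

/-- `f` centralises `W_R` -/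
theorem f_cent (h : Mid S P V Z) (m : Mv V Z A R B f k) : f ∈ centralizer ((ws V R : Subgroup G) : Set G) :=
  h.com B R m.cr.r.symm m.mem

/-- `f` centralises `A` -/
theorem f_cent_A (h : Mid S P V Z) (m : Mv V Z A R B f k) : f ∈ centralizer (A : Set G) :=
  h.ws_le_cent m.cr.r.symm m.cr.l.symm m.mem

/-- `f` fixes `R` -/
theorem f_R (h : Mid S P V Z) (m : Mv V Z A R B f k) : cj f R = R :=
  cj_eq_iff.2 (centralizer_le_normalizer _ (centralizer_le (h.pt_le_ws m.cr.l.right) (m.f_cent h)))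

/-- `(R^k)^f = R^(k⁻¹)` -/
theorem f_cj (h : Mid S P V Z) (m : Mv V Z A R B f k) : cj f (cj k R) = cj k⁻¹ R := by
  have e : f * k = k⁻¹ * f := by rw [← m.inv]; group
  rw [cj_cj, e, ← cj_cj, m.f_R h]

/-- `f^(k)` centralises `W_{R^k}` -/
theorem f_cent_cj (h : Mid S P V Z) (m : Mv V Z A R B f k) :
    k * f * k⁻¹ ∈ centralizer ((ws V (cj k R) : Subgroup G) : Set G) := by
  rw [ws_cj, ← cj_centralizer]
  exact conj_mem_cj (m.f_cent h)

/-- the line on `A`, `R^k` is not the line on `A`, `R` -/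
theorem line_ne (m : Mv V Z A R B f k) {L : Subgroup G} (hL : IsCj V L) (hA : A ≤ L) (hR : R ≤ L) :
    cj k L ≠ L := by
  have h1 := m.mv 1 (by rw [pow_one]; exact m.ne) L hL hA hR
  rwa [pow_one] at h1

/-- `R^k` is not on the line `AR` -/
theorem not_le (h : Mid S P V Z) (m : Mv V Z A R B f k) {L : Subgroup G} (hL : IsCj V L) (hA : A ≤ L) (hR : R ≤ L) :
    ¬ cj k R ≤ L := by
  intro e
  refine m.line_ne hL hA hR ?_
  have h1 := m.adj
  refine h.line_unique m.cr.l.left h1.right h1.ne (hL.cj k) hL ?_ (cj_le_cj.2 hR) hA e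
  rw [← m.cj_A]; exact cj_le_cj.2 hA

theorem cj_ne_R (h : Mid S P V Z) (m : Mv V Z A R B f k) : cj k R ≠ R := by
  intro e
  obtain ⟨L, h4, h5, h6⟩ := m.cr.l.line
  exact m.not_le h h4 h5 h6 (by rw [e]; exact h6)

/-- `R^(k⁻¹)` is not on the line `A R^k` -/
theorem not_le' (h : Mid S P V Z) (m : Mv V Z A R B f k) {L : Subgroup G} (hL : IsCj V L) (hA : A ≤ L)
    (hR : cj k R ≤ L) : ¬ cj k⁻¹ R ≤ L := by
  intro e
  have hA' : A ≤ cj k⁻¹ L := by
    rw [← m.symm.cj_A]; exact cj_le_cj.2 hA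
  have h1 : R ≤ cj k⁻¹ L := by
    have := (cj_le_cj (g := k⁻¹)).2 hR
    rwa [cj_cj, inv_mul_cancel, cj_one] at this
  refine (m.sq.symm).not_le h (hL.cj k⁻¹) hA' h1 ?_
  have := (cj_le_cj (g := k⁻¹)).2 e
  rwa [cj_cj, ← mul_inv_rev] at this

end Mv


end Cfsg.Agent.Omega.NO3S.MidB.No

end

end
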