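import Cfsg.Agent.Mrg.Omega.NO3S.MidB.Base
import Cfsg.Agent.Mrg.Omega.NOThree.LL.OrbSum
import Cfsg.Agent.Mrg.Omega.NO3S.FarQ.FOne
import Cfsg.Agent.Involutions.BaerSuzuki

section


/-!
# NO-3S, natural lines, critical distance 2: THEOREM INN, the realisation of `N_G(Z)` on `W_Z / Z`

`RN V Z ρ π` : `ρ : N_G(Z) → H`, `π : W_Z → M`, `M = W_Z / Z`, `H = N_G(Z) / {g : [g, W_Z] ≤ Z}`;
`RN.mp K ≤ M`, `RN.mr K ≤ H` are the images of `K`.
-/

set_option autoImplicit false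
set_option linter.unusedSectionVars false

namespace Cfsg.Agent.Omega.NO3S.MidB.No

open Subgroup Cfsg.Agent.Omega.NO3S.PT Cfsg.Agent.Omega.NoFF.Basic Cfsg.Agent.ZN
open Cfsg.Agent.Omega.NO3S.MidQ (Adj Com Cr UU ws_of kx_of isCj_iff adj_iff com_iff cr_iff)
open Cfsg.Agent.Omega.NO3S.OneS (IsBB)
open scoped Pointwise

universe u

variable {G : Type u} [Group G]

/-- the realisation of `N_G(Z)` on `W_Z / Z` -/
structure RN (V Z : Subgroup G) {H M : Type*} [Group H] [CommGroup M] [MulDistribMulAction H M] (ρ : G → H)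
    (π : G → M) : Prop where
  mulρ : ∀ a ∈ normalizer (Z : Set G), ∀ b ∈ normalizer (Z : Set G), ρ (a * b) = ρ a * ρ b
  surjρ : ∀ x, ∃ a ∈ normalizer (Z : Set G), ρ a = x
  kerρ : ∀ a ∈ normalizer (Z : Set G), (ρ a = 1 ↔ ∀ w ∈ ws V Z, a * w * a⁻¹ * w⁻¹ ∈ Z)
  mulπ : ∀ a ∈ ws V Z, ∀ b ∈ ws V Z, π (a * b) = π a * π b
  surjπ : ∀ m, ∃ a ∈ ws V Z, π a = m
  kerπ : ∀ a ∈ ws V Z, (π a = 1 ↔ a ∈ Z)
  act : ∀ g ∈ normalizer (Z : Set G), ∀ w ∈ ws V Z, π (g * w * g⁻¹) = ρ g • π w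
  le : Z ≤ ws V Z
  com : ws V Z ≤ centralizer ((ws V Z : Subgroup G) : Set G)

/-- **existence** -/
theorem exists_rn {V Z : Subgroup G} (h1 : Z ≤ ws V Z) (h2 : ws V Z ≤ centralizer ((ws V Z : Subgroup G) : Set G)) :
    ∃ (H M : Type u) (_ : Group H) (_ : CommGroup M) (_ : MulDistribMulAction H M) (ρ : G → H) (π : G → M),
      RN V Z ρ π := by
  obtain ⟨H, M, i1, i2, i3, ρ, π, a1, a2, a3, a4, a5, a6, a7⟩ :=
    FarQ.exists_mod (C := normalizer (Z : Set G)) (W := ws V Z) (R := Z)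
      (fun c hc w hw => (mem_normalizer_iff.1 (normalizer_le_ws V Z hc) w).1 hw)
      (fun c hc w hw => (mem_normalizer_iff.1 hc w).1 hw)
      (fun a ha b hb => (mem_centralizer_iff.1 (h2 ha) b hb).symm)
  exact ⟨H, M, i1, i2, i3, ρ, π, a1, a2, a3, a4, a5, a6, a7, h1, h2⟩

namespace RN

variable {V Z : Subgroup G} {H M : Type*} [Group H] [CommGroup M] [MulDistribMulAction H M] {ρ : G → H} {π : G → M}
variable (r : RN V Z ρ π)
include r

theorem conj_ws {g w : G} (hg : g ∈ normalizer (Z : Set G)) (hw : w ∈ ws V Z) : g * w * g⁻¹ ∈ ws V Z :=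
  (mem_normalizer_iff.1 (normalizer_le_ws V Z hg) w).1 hw

theorem one_ρ : ρ 1 = 1 := by
  have h1 := r.mulρ 1 (one_mem _) 1 (one_mem _)
  rw [mul_one] at h1
  exact left_eq_mul.1 h1

theorem inv_ρ {a : G} (ha : a ∈ normalizer (Z : Set G)) : ρ a⁻¹ = (ρ a)⁻¹ := by
  have h1 := r.mulρ a ha a⁻¹ (inv_mem ha)
  rw [mul_inv_cancel, r.one_ρ] at h1
  exact (inv_eq_of_mul_eq_one_right h1.symm).symm

theorem pow_ρ {a : G} (ha : a ∈ normalizer (Z : Set G)) (n : ℕ) : ρ (a ^ n) = (ρ a) ^ n := by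
  induction n with
  | zero => rw [pow_zero, pow_zero, r.one_ρ]
  | succ n ih => rw [pow_succ, pow_succ, r.mulρ _ (pow_mem ha n) _ ha, ih]

theorem one_π : π 1 = 1 := by
  have h1 := r.mulπ 1 (one_mem _) 1 (one_mem _)
  rw [mul_one] at h1
  exact left_eq_mul.1 h1

theorem inv_π {a : G} (ha : a ∈ ws V Z) : π a⁻¹ = (π a)⁻¹ := by
  have h1 := r.mulπ a ha a⁻¹ (inv_mem ha)
  rw [mul_inv_cancel, r.one_π] at h1
  exact (inv_eq_of_mul_eq_one_right h1.symm).symm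

/-- the homomorphism `N_G(Z) → H` -/
def rh : normalizer (Z : Set G) →* H where
  toFun a := ρ a
  map_one' := r.one_ρ
  map_mul' a b := r.mulρ a a.2 b b.2

theorem rh_apply (a : normalizer (Z : Set G)) : r.rh a = ρ a := rfl

theorem rh_surj : Function.Surjective r.rh := by
  intro x
  obtain ⟨a, ha, e⟩ := r.surjρ x
  exact ⟨⟨a, ha⟩, e⟩

/-- the homomorphism `W_Z → M` -/
def ph : ws V Z →* M where
  toFun a := π a
  map_one' := r.one_π
  map_mul' a b := r.mulπ a a.2 b b.2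

theorem ph_apply (a : ws V Z) : r.ph a = π a := rfl

theorem ph_surj : Function.Surjective r.ph := by
  intro x
  obtain ⟨a, ha, e⟩ := r.surjπ x
  exact ⟨⟨a, ha⟩, e⟩

/-- the image of `K` in `M` -/
def mp (K : Subgroup G) : Subgroup M := (K.subgroupOf (ws V Z)).map r.ph

/-- the image of `K` in `H` -/
def mr (K : Subgroup G) : Subgroup H := (K.subgroupOf (normalizer (Z : Set G))).map r.rh

theorem mem_mp {K : Subgroup G} {m : M} : m ∈ r.mp K ↔ ∃ a ∈ K, a ∈ ws V Z ∧ π a = m := by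
  constructor
  · rintro ⟨a, ha, e⟩
    exact ⟨a, mem_subgroupOf.1 ha, a.2, e⟩
  · rintro ⟨a, ha, ha', e⟩
    exact ⟨⟨a, ha'⟩, mem_subgroupOf.2 ha, e⟩

theorem mem_mr {K : Subgroup G} {x : H} : x ∈ r.mr K ↔ ∃ a ∈ K, a ∈ normalizer (Z : Set G) ∧ ρ a = x := by
  constructor
  · rintro ⟨a, ha, e⟩
    exact ⟨a, mem_subgroupOf.1 ha, a.2, e⟩
  · rintro ⟨a, ha, ha', e⟩
    exact ⟨⟨a, ha'⟩, mem_subgroupOf.2 ha, e⟩

theorem mp_mem {K : Subgroup G} {a : G} (ha : a ∈ K) (ha' : a ∈ ws V Z) : π a ∈ r.mp K := r.mem_mp.2 ⟨a, ha, ha', rfl⟩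

theorem mr_mem {K : Subgroup G} {a : G} (ha : a ∈ K) (ha' : a ∈ normalizer (Z : Set G)) : ρ a ∈ r.mr K :=
  r.mem_mr.2 ⟨a, ha, ha', rfl⟩

/-- `π a = π b` -/
theorem π_eq {a b : G} (ha : a ∈ ws V Z) (hb : b ∈ ws V Z) : π a = π b ↔ a * b⁻¹ ∈ Z := by
  rw [← r.kerπ _ (mul_mem ha (inv_mem hb)), r.mulπ _ ha _ (inv_mem hb), r.inv_π hb, mul_inv_eq_one]

theorem mp_mem_iff {K : Subgroup G} (hK : Z ≤ K) {a : G} (ha' : a ∈ ws V Z) : π a ∈ r.mp K ↔ a ∈ K := by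
  refine ⟨fun h1 => ?_, fun h1 => r.mp_mem h1 ha'⟩
  obtain ⟨b, hb, hb', e⟩ := r.mem_mp.1 h1
  have h2 := (r.π_eq ha' hb').1 e.symm
  have h3 : a = a * b⁻¹ * b := by group
  rw [h3]
  exact mul_mem (hK h2) hb

theorem mp_le_iff {K K' : Subgroup G} (hK' : Z ≤ K') (hK : K ≤ ws V Z) : r.mp K ≤ r.mp K' ↔ K ≤ K' := by
  constructor
  · intro h1 a ha
    exact (r.mp_mem_iff hK' (hK ha)).1 (h1 (r.mp_mem ha (hK ha)))
  · intro h1 m hm
    obtain ⟨a, ha, ha', rfl⟩ := r.mem_mp.1 hm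
    exact r.mp_mem (h1 ha) ha'

theorem mp_inj {K K' : Subgroup G} (hK : Z ≤ K) (hK' : Z ≤ K') (h1 : K ≤ ws V Z) (h2 : K' ≤ ws V Z) :
    r.mp K = r.mp K' ↔ K = K' :=
  ⟨fun e => le_antisymm ((r.mp_le_iff hK' h1).1 e.le) ((r.mp_le_iff hK h2).1 e.ge), fun e => e ▸ rfl⟩

theorem smul_mp {g : G} (hg : g ∈ normalizer (Z : Set G)) (K : Subgroup G) : ρ g • r.mp K = r.mp (cj g K) := by
  have key : ∀ {g : G} (_ : g ∈ normalizer (Z : Set G)) (K : Subgroup G), ρ g • r.mp K ≤ r.mp (cj g K) := by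
    intro g hg K
    rintro _ ⟨m, hm, rfl⟩
    obtain ⟨a, ha, ha', rfl⟩ := r.mem_mp.1 hm
    change ρ g • π a ∈ _
    rw [← r.act g hg a ha']
    exact r.mp_mem (conj_mem_cj ha) (r.conj_ws hg ha')
  refine le_antisymm (key hg K) ?_
  have h1 := key (inv_mem hg) (cj g K)
  rw [cj_cj, inv_mul_cancel, cj_one, r.inv_ρ hg] at h1
  rwa [Subgroup.pointwise_smul_subset_iff, inv_inv] at h1

theorem card_mp [Finite G] {K : Subgroup G} (hK : Z ≤ K) (h1 : K ≤ ws V Z) :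
    Nat.card (r.mp K) * Nat.card Z = Nat.card K := by
  have h2 := Subgroup.card_mul_index (r.ph.ker.subgroupOf (K.subgroupOf (ws V Z)))
  have e1 : Nat.card (K.subgroupOf (ws V Z)) = Nat.card K := Nat.card_congr (Subgroup.subgroupOfEquivOfLe h1).toEquiv
  have e2 : (r.ph.ker.subgroupOf (K.subgroupOf (ws V Z))).index = Nat.card (r.mp K) := by
    rw [mp, ← Subgroup.relIndex, Subgroup.relIndex_ker]
  have e3 : Nat.card (r.ph.ker.subgroupOf (K.subgroupOf (ws V Z))) = Nat.card Z := by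
    refine Nat.card_congr ⟨fun x => ⟨((x : K.subgroupOf (ws V Z)) : ws V Z), ?_⟩,
      fun x => ⟨⟨⟨x, r.le x.2⟩, mem_subgroupOf.2 (hK x.2)⟩, ?_⟩, fun x => rfl, fun x => rfl⟩
    · exact (r.kerπ _ ((x : K.subgroupOf (ws V Z)) : ws V Z).2).1 (MonoidHom.mem_ker.1 (mem_subgroupOf.1 x.2))
    · exact mem_subgroupOf.2 (MonoidHom.mem_ker.2 ((r.kerπ _ (r.le x.2)).2 x.2))
  rw [e1, e2, e3, mul_comm] at h2
  exact h2

theorem card_M [Finite G] : Nat.card M * Nat.card Z = Nat.card (ws V Z) := by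
  have h1 := r.card_mp r.le le_rfl
  have h2 : r.mp (ws V Z) = ⊤ := by
    rw [eq_top_iff]
    intro m _
    obtain ⟨a, ha, rfl⟩ := r.surjπ m
    exact r.mp_mem ha ha
  rwa [h2, Nat.card_congr Subgroup.topEquiv.toEquiv] at h1

theorem finite_M [Finite G] : Finite M := Finite.of_surjective _ r.ph_surj

theorem finite_H [Finite G] : Finite H := Finite.of_surjective _ r.rh_surj

/-- `[g, w]` -/
theorem π_comm {g w : G} (hg : g ∈ normalizer (Z : Set G)) (hw : w ∈ ws V Z) (sq : ∀ m : M, m * m = 1) :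
    ρ g • π w * π w = π (g * w * g⁻¹ * w⁻¹) := by
  have h1 : π w⁻¹ = π w := by
    rw [r.inv_π hw]
    exact inv_eq_of_mul_eq_one_right (sq _)
  rw [r.mulπ _ (r.conj_ws hg hw) _ (inv_mem hw), r.act g hg w hw, h1]

theorem fix_iff {g w : G} (hg : g ∈ normalizer (Z : Set G)) (hw : w ∈ ws V Z) :
    ρ g • π w = π w ↔ g * w * g⁻¹ * w⁻¹ ∈ Z := by
  rw [← r.act g hg w hw, r.π_eq (r.conj_ws hg hw) hw]

/-- `C_H(U) ∩ C_H(M/U)` -/
theorem isBB_iff {g : G} (hg : g ∈ normalizer (Z : Set G)) {U : Subgroup G} (hU : Z ≤ U) (hUW : U ≤ ws V Z)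
    (sq : ∀ m : M, m * m = 1) :
    IsBB (r.mp U) (ρ g) ↔ (∀ u ∈ U, g * u * g⁻¹ * u⁻¹ ∈ Z) ∧ ∀ w ∈ ws V Z, g * w * g⁻¹ * w⁻¹ ∈ U := by
  constructor
  · rintro ⟨h1, h2⟩
    refine ⟨fun u hu => ?_, fun w hw => ?_⟩
    · exact (r.fix_iff hg (hUW hu)).1 (h1 _ (r.mp_mem hu (hUW hu)))
    · have h3 := h2 (π w)
      rw [r.π_comm hg hw sq] at h3
      exact (r.mp_mem_iff hU (mul_mem (r.conj_ws hg hw) (inv_mem hw))).1 h3
  · rintro ⟨h1, h2⟩
    refine ⟨fun m hm => ?_, fun m => ?_⟩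
    · obtain ⟨a, ha, ha', rfl⟩ := r.mem_mp.1 hm
      exact (r.fix_iff hg ha').2 (h1 a ha)
    · obtain ⟨w, hw, rfl⟩ := r.surjπ m
      rw [r.π_comm hg hw sq]
      exact r.mp_mem (h2 w hw) (mul_mem (r.conj_ws hg hw) (inv_mem hw))

theorem faith (x : H) (hx : ∀ m : M, x • m = m) : x = 1 := by
  obtain ⟨g, hg, rfl⟩ := r.surjρ x
  exact (r.kerρ g hg).2 fun w hw => (r.fix_iff hg hw).1 (hx _)

theorem ρ_one_of_kx {k : G} (hk : k ∈ kx V Z) : ρ k = 1 :=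
  (r.kerρ k (centralizer_le_normalizer _ (kx_le_cent hk))).2 (mem_kx.1 hk).2

end RN

end Cfsg.Agent.Omega.NO3S.MidB.No

end

section


/-!
# NO-3S, natural lines, critical distance 2: THEOREM INN, the frame `Fr` at the base flag
-/

set_option autoImplicit false
set_option linter.unusedSectionVars false

namespace Cfsg.Agent.Omega.NO3S.MidB.No

open Subgroup Cfsg.Agent.Omega.NO3S.PT Cfsg.Agent.Omega.NoFF.Basic Cfsg.Agent.ZN
open Cfsg.Agent.Omega.NO3S.MidQ (Adj Com Cr UU ws_of kx_of isCj_iff adj_iff com_iff cr_iff)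
open Cfsg.Agent.Omega.NO3S.OneS (IsBB)
open scoped Pointwise

universe u

variable {G : Type u} [Group G]

namespace InnG

variable [Finite G] {S : Sylow 2 G} {P V Z : Subgroup G} (h : Mid S P V Z)
include h

theorem le_ws_base : V ≤ ws V Z := h.pl.V_le_ws h.pl.ZV

/-- `I_L` -/
theorem IV_eq {L R : Subgroup G} (hL : IsCj V L) (hZL : Z ≤ L) (hR : IsCj Z R) (hRL : R ≤ L) (hne : R ≠ Z) :
    IV L Z = ws V Z ⊓ ws V R := by
  obtain ⟨T, Q, h'⟩ := h.flag h.pl.isCj_self hL hZL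
  have h1 := h'.pl.IV_eq h'.hf h'.pl.isCj_self hZL hR hRL hne.symm
  rw [ws_of hL, ws_of hL] at h1
  exact h1.symm

theorem IV_le' {L Y : Subgroup G} (hL : IsCj V L) (hY : IsCj Z Y) (hYL : Y ≤ L) : IV L Z ≤ ws V Y := by
  have h1 := IV_le hY hYL (V := L)
  rwa [ws_of hL] at h1

theorem line_le_IV {L : Subgroup G} (hL : IsCj V L) (hZL : Z ≤ L) : L ≤ IV L Z := by
  obtain ⟨T, Q, h'⟩ := h.flag h.pl.isCj_self hL hZL
  exact h'.pl.V_le_IV

theorem cj_IV {g : G} (hg : g ∈ normalizer (Z : Set G)) : cj g (IV V Z) = IV (cj g V) Z := by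
  have h1 := PB.Geom.IV_conj h.pl h.hf g
  rw [cj_eq_iff.2 hg] at h1
  exact h1.symm

theorem card_IV {g : G} (hg : g ∈ normalizer (Z : Set G)) : Nat.card (IV (cj g V) Z) = Nat.card (IV V Z) := by
  rw [← cj_IV h hg, card_cj]

/-- two lines on `Z` meet in `Z` -/
theorem lines_inf {X L N : Subgroup G} (hX : IsCj Z X) (hL : IsCj V L) (hN : IsCj V N) (hXL : X ≤ L) (hXN : X ≤ N)
    (hne : L ≠ N) {u : G} (hu : u ∈ L) (hu' : u ∈ N) : u ∈ X := by
  by_contra huX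
  have hu1 : u ≠ 1 := fun e => huX (e ▸ one_mem _)
  obtain ⟨A, hA, hAL, huA⟩ := h.exists_point hL hu hu1
  obtain ⟨B, hB, hBN, huB⟩ := h.exists_point hN hu' hu1
  have h1 : A = B := h.pts_eq hA hB huA huB hu1
  subst h1
  exact hne (h.line_unique hX hA (fun e => huX (e ▸ huA)) hL hN hXL hAL hXN hBN)

/-- the line on `Z` is a conjugate of `V` under `N_G(Z)` -/
theorem exists_norm {L : Subgroup G} (hL : IsCj V L) (hZL : Z ≤ L) : ∃ g ∈ normalizer (Z : Set G), L = cj g V := by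
  obtain ⟨g, h1, h2⟩ := h.exists_conj₂ h.pl.isCj_self ⟨1, (cj_one V).symm⟩ h.pl.ZV h.pl.isCj_self hL hZL
  exact ⟨g, cj_eq_iff.1 h1.symm, h2⟩

/-- a point which touches `I_L` outside `L` and is collinear with a point of `L` is collinear with all points of `L` -/
theorem touch {L A B C D Y : Subgroup G} (hL : IsCj V L) (hA : IsCj Z A) (hB : IsCj Z B) (hAL : A ≤ L) (hBL : B ≤ L)
    (hne : A ≠ B) (hC : IsCj Z C) (hD : IsCj Z D) (hCL : C ≤ L) (hDL : D ≤ L) {u : G} (hu : u ∈ ws V A)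
    (hu' : u ∈ ws V B) (huL : u ∉ L) (huY : u ∈ Y) (hY : Adj V Z Y C) : Adj V Z Y D := by
  obtain ⟨x, -, hxu, hxC, -, -, -⟩ := h.F2_swap hL hA hB hAL hBL hne hC hD hCL hDL hu hu' huL
  have h1 : cj x Y = Y := h.fix_of_comm hY.left huY (fun e => huL (e ▸ one_mem _)) hxu
  have h2 := hY.cj x
  rwa [h1, hxC] at h2

/-- (COLL), first part -/
theorem far_adj {L Y R : Subgroup G} (hL : IsCj V L) (hZL : Z ≤ L) (hne : L ≠ V) (hY : IsCj Z Y) (hYL : Y ≤ L) {a : G}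
    (haY : a ∈ Y) (ha : a ∈ IV V Z) (haZ : a ∉ Z) (hR : IsCj Z R) (hRV : R ≤ V) : Adj V Z Y R := by
  have hV : IsCj V V := ⟨1, (cj_one V).symm⟩
  obtain ⟨T, hT, hTV, hTZ⟩ := h.exists_second h.pl.isCj_self hV h.pl.ZV
  have hYZ : Y ≠ Z := fun e => haZ (e ▸ haY)
  refine touch h hV h.pl.isCj_self hT h.pl.ZV hTV hTZ.symm h.pl.isCj_self hR h.pl.ZV hRV (u := a)
    (h.pl.IV_le_ws ha) (IV_le hT hTV ha) (fun e => haZ (lines_inf h h.pl.isCj_self hL hV hZL h.pl.ZV hne (hYL haY) e))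
    haY ⟨hY, h.pl.isCj_self, hYZ, L, hL, hYL, hZL⟩

/-- (COLL) -/
theorem coll_geo {L : Subgroup G} (hL : IsCj V L) (hZL : Z ≤ L) (hne : L ≠ V) {a : G} (haL : a ∈ L) (ha : a ∈ IV V Z)
    (haZ : a ∉ Z) {y v : G} (hy : y ∈ L) (hv : v ∈ V) : ∃ N, IsCj V N ∧ Z ≤ N ∧ y * v ∈ N := by
  have hV : IsCj V V := ⟨1, (cj_one V).symm⟩
  have hZ := h.pl.isCj_self
  by_cases hvZ : v ∈ Z
  · exact ⟨L, hL, hZL, mul_mem hy (hZL hvZ)⟩
  obtain ⟨Y, hY, hYL, haY⟩ := h.exists_point hL haL (fun e => haZ (e ▸ one_mem _))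
  have hYZ : Y ≠ Z := fun e => haZ (e ▸ haY)
  obtain ⟨z, hz, y', hy', rfl⟩ := h.line_eq hZ hY hYZ.symm hL hZL hYL hy
  by_cases hy1 : y' = 1
  · subst hy1
    rw [mul_one]
    exact ⟨V, hV, h.pl.ZV, mul_mem (h.pl.ZV hz) hv⟩
  obtain ⟨R, hR, hRV, hvR⟩ := h.exists_point hV hv (fun e => hvZ (e ▸ one_mem _))
  have hRZ : R ≠ Z := fun e => hvZ (e ▸ hvR)
  have h1 : Adj V Z Y R := far_adj h hL hZL hne hY hYL haY ha haZ hR hRV
  obtain ⟨N, hN, hYN, hRN⟩ := h1.line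
  have h2 : y' * v ∈ N := mul_mem (hYN hy') (hRN hvR)
  have h3 : y' * v ≠ 1 := by
    intro e
    have e1 : y' = v⁻¹ := eq_inv_of_mul_eq_one_left e
    exact hy1 (h.pt_inf hY hR h1.ne hy' (e1 ▸ inv_mem hvR))
  obtain ⟨E, hE, hEN, hE'⟩ := h.exists_point hN h2 h3
  obtain ⟨z₀, hz₀, hz₀1⟩ := h.pt_ne_bot hZ
  have hZY : Adj V Z Z Y := ⟨hZ, hY, hYZ.symm, L, hL, hZL, hYL⟩
  have hZR : Adj V Z Z R := ⟨hZ, hR, hRZ.symm, V, hV, h.pl.ZV, hRV⟩
  have h4 : z₀ ∉ N := by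
    intro e
    obtain ⟨Q, hQ, hQN, hzQ⟩ := h.exists_point hN e hz₀1
    have h5 : Q = Z := h.pts_eq hQ hZ hzQ hz₀ hz₀1
    subst h5
    have h6 : N = L := h.line_unique hQ hY hYZ.symm hN hL hQN hYN hZL hYL
    have h7 : N = V := h.line_unique hQ hR hRZ.symm hN hV hQN hRN h.pl.ZV hRV
    exact hne (h6.symm.trans h7)
  have h5 : Adj V Z Z E := touch h hN hY hR hYN hRN h1.ne hY hE hYN hEN (h.adj_le_ws hZY.symm hz₀)
    (h.adj_le_ws hZR.symm hz₀) h4 hz₀ hZY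
  obtain ⟨N', hN', hZN', hEN'⟩ := h5.line
  refine ⟨N', hN', hZN', ?_⟩
  rw [mul_assoc]
  exact mul_mem (hZN' hz) (hEN' hE')

/-- (SYM) -/
theorem sym_geo {L : Subgroup G} (hL : IsCj V L) (hZL : Z ≤ L) (hne : L ≠ V) {a : G} (haL : a ∈ L) (ha : a ∈ IV V Z)
    (haZ : a ∉ Z) : V ≤ IV L Z := by
  have hV : IsCj V V := ⟨1, (cj_one V).symm⟩
  have hZ := h.pl.isCj_self
  obtain ⟨Y, hY, hYL, haY⟩ := h.exists_point hL haL (fun e => haZ (e ▸ one_mem _))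
  have hYZ : Y ≠ Z := fun e => haZ (e ▸ haY)
  obtain ⟨R, hR, hRV, hRZ⟩ := h.exists_second hZ hV h.pl.ZV
  have h1 : Adj V Z Y R := far_adj h hL hZL hne hY hYL haY ha haZ hR hRV
  rw [IV_eq h hL hZL hY hYL hYZ]
  refine le_inf (le_ws_base h) ?_
  exact h.line_le_of hZ hR hRZ.symm hV h.pl.ZV hRV (h.adj_le_ws ⟨hY, hZ, hYZ, L, hL, hYL, hZL⟩) (h.adj_le_ws h1)

end InnG

end Cfsg.Agent.Omega.NO3S.MidB.No

end

section


/-!
# NO-3S, natural lines, critical distance 2: THEOREM INN, the frame `Fr` at the base flag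
-/

set_option autoImplicit false
set_option linter.unusedSectionVars false

namespace Cfsg.Agent.Omega.NO3S.MidB.No

open Subgroup Cfsg.Agent.Omega.NO3S.PT Cfsg.Agent.Omega.NoFF.Basic Cfsg.Agent.ZN
open Cfsg.Agent.Omega.NO3S.MidQ (Adj Com Cr UU ws_of kx_of isCj_iff adj_iff com_iff cr_iff)
open Cfsg.Agent.Omega.NO3S.OneS (IsBB Fr Lam mem_sup' ne_bot_iff')
open Cfsg.Agent.ClassTwoFusion.Quad (cv)
open Cfsg.Agent.Omega.NOThree.NoOver (fo)
open scoped Pointwise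

universe u

variable {G : Type u} [Group G]

namespace InnG

variable [Finite G] {S : Sylow 2 G} {P V Z : Subgroup G} (h : Mid S P V Z)
variable {H M : Type*} [Group H] [CommGroup M] [MulDistribMulAction H M] {ρ : G → H} {π : G → M} (r : RN V Z ρ π)
include h r

theorem sq (m : M) : m * m = 1 := by
  obtain ⟨w, hw, rfl⟩ := r.surjπ m
  rw [← r.mulπ w hw w hw, h.ws_sq h.pl.isCj_self hw, r.one_π]

theorem bb_sq {U : Subgroup M} {b : H} (hb : IsBB U b) : b * b = 1 := by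
  apply r.faith
  intro m
  have h1 := hb.1 _ (hb.2 m)
  rw [smul_mul', ← mul_smul] at h1
  have h2 : (b * b) • m = (b • m * m) * b • m := by
    rw [← h1, mul_assoc, sq h r, mul_one]
  rw [h2, mul_comm (b • m) m, mul_assoc, sq h r, mul_one]

theorem Z_le_IV : Z ≤ IV V Z := h.pl.ZV.trans h.pl.V_le_IV

theorem bb_iff {g : G} (hg : g ∈ normalizer (Z : Set G)) : IsBB (r.mp (IV V Z)) (ρ g) ↔
    (∀ u ∈ IV V Z, g * u * g⁻¹ * u⁻¹ ∈ Z) ∧ ∀ w ∈ ws V Z, g * w * g⁻¹ * w⁻¹ ∈ IV V Z :=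
  r.isBB_iff hg (Z_le_IV h r) h.pl.IV_le_ws (sq h r)

/-- every element of `C_H(U) ∩ C_H(M/U)` is induced by a 2-element of `C_G(V)` -/
theorem lift {b : H} (hb : IsBB (r.mp (IV V Z)) b) : ∃ t ∈ centralizer (V : Set G), TwoEl t ∧ ρ t = b := by
  obtain ⟨s, hs, rfl⟩ := r.surjρ b
  have hZ := h.pl.isCj_self
  have hV : IsCj V V := ⟨1, (cj_one V).symm⟩
  have hbb := bb_sq h r hb
  have hpow : ∀ g ∈ normalizer (Z : Set G), ρ g = ρ s → ∀ m : ℕ, Odd m → ρ (g ^ m) = ρ s := by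
    rintro g hg e m ⟨j, rfl⟩
    rw [r.pow_ρ hg, e, pow_succ, pow_mul, pow_two, hbb, one_pow, one_mul]
  obtain ⟨m, hm, hsm⟩ := exists_odd_pow s
  set s' := s ^ m with hs'
  have hsN : s' ∈ normalizer (Z : Set G) := pow_mem hs m
  have e1 : ρ s' = ρ s := hpow s hs rfl m hm
  have h1 := (bb_iff h r hsN).1 (by rw [e1]; exact hb)
  obtain ⟨Y, hY, hYV, hYZ⟩ := h.exists_second hZ hV h.pl.ZV
  have hsV : cj s' V = V := by
    obtain ⟨v, hv, hvZ⟩ := h.pl.exists_out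
    refine h.stab hZ hV h.pl.ZV hsN hv hvZ ?_
    have h2 := h1.1 v (h.pl.V_le_IV hv)
    have e2 : s' * v * s'⁻¹ = s' * v * s'⁻¹ * v⁻¹ * v := by group
    rw [e2]
    exact mul_mem (h.pl.ZV h2) hv
  have h2 : cj s' Y ≤ V := by rw [← hsV]; exact cj_le_cj.2 hYV
  have h3 : cj s' Y ≠ Z := by
    intro e
    rw [← cj_eq_iff.2 hsN] at e
    exact hYZ (cj_inj.1 e)
  obtain ⟨k, hk, hkY⟩ := h.K_trans hZ hV h.pl.ZV (hY.cj s') h2 hY hYV h3 hYZ
  have hkN : k ∈ normalizer (Z : Set G) := centralizer_le_normalizer _ (kx_le_cent hk)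
  set t := k * s' with ht
  have htN : t ∈ normalizer (Z : Set G) := mul_mem hkN hsN
  have e2 : ρ t = ρ s := by rw [ht, r.mulρ k hkN s' hsN, r.ρ_one_of_kx hk, one_mul, e1]
  have htY : cj t Y = Y := by rw [ht, ← cj_cj, hkY]
  have h4 := (bb_iff h r htN).1 (by rw [e2]; exact hb)
  have h5 : ∀ y ∈ Y, t * y = y * t := by
    intro y hy
    have h6 : t * y * t⁻¹ * y⁻¹ ∈ Y := by
      refine mul_mem ?_ (inv_mem hy)
      have := conj_mem_cj (g := t) hy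
      rwa [htY] at this
    have h7 := h.pt_inf hY hZ hYZ h6 (h4.1 y (h.pl.V_le_IV (hYV hy)))
    rwa [mul_inv_eq_one, mul_inv_eq_iff_eq_mul] at h7
  obtain ⟨m', hm', htm⟩ := exists_odd_pow t
  have h6 : ∀ y ∈ Y, t ^ m' * y = y * t ^ m' := fun y hy => (Commute.pow_left (show Commute t y from h5 y hy) m').eq
  have h7 := h.t3n ⟨hY, hZ, hYZ, V, hV, hYV, h.pl.ZV⟩ htm h6 (cj_eq_iff.2 (pow_mem htN m'))
  refine ⟨t ^ m', ?_, htm, hpow t htN e2 m' hm'⟩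
  rw [mem_centralizer_iff]
  intro v hv
  obtain ⟨z, hz, y, hy, rfl⟩ := h.line_eq hZ hY hYZ.symm hV h.pl.ZV hYV hv
  rw [mul_assoc, ← h6 y hy, ← mul_assoc, ← h7 z hz, mul_assoc]

theorem mp_line_mem {g : G} (hg : g ∈ normalizer (Z : Set G)) {w : G} (hw : w ∈ ws V Z) :
    π w ∈ ρ g • r.mp V ↔ w ∈ cj g V := by
  rw [r.smul_mp hg]
  refine r.mp_mem_iff ?_ hw
  rw [← cj_eq_iff.2 hg]
  exact cj_le_cj.2 h.pl.ZV

theorem Z_le_cj {g : G} (hg : g ∈ normalizer (Z : Set G)) {K : Subgroup G} (hK : Z ≤ K) : Z ≤ cj g K := by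
  nth_rewrite 1 [← cj_eq_iff.2 hg]
  exact cj_le_cj.2 hK

theorem cj_le_ws {g : G} (hg : g ∈ normalizer (Z : Set G)) {K : Subgroup G} (hK : K ≤ ws V Z) : cj g K ≤ ws V Z := by
  rw [← cj_eq_iff.2 (normalizer_le_ws V Z hg)]
  exact cj_le_cj.2 hK

theorem V_le_ws : V ≤ ws V Z := h.pl.V_le_ws h.pl.ZV

theorem smul_eq_iff {g : G} (hg : g ∈ normalizer (Z : Set G)) : ρ g • r.mp V = r.mp V ↔ cj g V = V := by
  rw [r.smul_mp hg]
  exact r.mp_inj (Z_le_cj h r hg h.pl.ZV) h.pl.ZV (cj_le_ws h r hg (V_le_ws h r)) (V_le_ws h r)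

/-- `v ∈ g • lam` nontrivial -/
theorem exists_of_inf {g : G} (hg : g ∈ normalizer (Z : Set G)) {K : Subgroup G} (hK : Z ≤ K)
    (hne : ρ g • r.mp V ⊓ r.mp K ≠ ⊥) : ∃ a ∈ cj g V, a ∈ K ∧ a ∉ Z := by
  obtain ⟨x, ⟨hx, hx'⟩, hx1⟩ := ne_bot_iff'.1 hne
  obtain ⟨a, ha, rfl⟩ := r.surjπ x
  exact ⟨a, (mp_line_mem h r hg ha).1 hx, (r.mp_mem_iff hK ha).1 hx', fun e => hx1 ((r.kerπ a ha).2 e)⟩

theorem card_lam : Nat.card (r.mp V) = Nat.card Z := by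
  have h1 := r.card_mp h.pl.ZV (V_le_ws h r)
  rw [h.pl.card] at h1
  exact Nat.eq_of_mul_eq_mul_right Nat.card_pos h1

/-- (NO) -/
theorem no_of (hNO : NOg V Z) (X : Subgroup H) (hX : ∀ x ∈ X, IsBB (r.mp (IV V Z)) x) : fo M X ≤ Nat.card M := by
  have hZ := h.pl.isCj_self
  have hV : IsCj V V := ⟨1, (cj_one V).symm⟩
  have hCN : centralizer (V : Set G) ≤ normalizer (Z : Set G) :=
    (centralizer_le h.pl.ZV).trans (centralizer_le_normalizer _)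
  -- `N`
  let N : Subgroup G :=
    { carrier := {g | g ∈ centralizer (V : Set G) ∧ (∀ u ∈ IV V Z, g * u * g⁻¹ * u⁻¹ ∈ Z) ∧
        ∀ w ∈ ws V Z, g * w * g⁻¹ * w⁻¹ ∈ IV V Z}
      one_mem' := ⟨one_mem _, fun u _ => by simp, fun w _ => by simp⟩
      mul_mem' := by
        rintro a b ⟨ha, ha'⟩ ⟨hb, hb'⟩
        refine ⟨mul_mem ha hb, ?_⟩
        rw [← bb_iff h r (hCN (mul_mem ha hb)), r.mulρ a (hCN ha) b (hCN hb)]
        exact (OneS.bb H (sq h r) (r.mp (IV V Z))).mul_mem ((bb_iff h r (hCN ha)).2 ha') ((bb_iff h r (hCN hb)).2 hb')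
      inv_mem' := by
        rintro a ⟨ha, ha'⟩
        refine ⟨inv_mem ha, ?_⟩
        rw [← bb_iff h r (hCN (inv_mem ha)), r.inv_ρ (hCN ha)]
        exact (OneS.bb H (sq h r) (r.mp (IV V Z))).inv_mem ((bb_iff h r (hCN ha)).2 ha') }
  have hN : ∀ g, g ∈ N ↔ g ∈ centralizer (V : Set G) ∧ IsBB (r.mp (IV V Z)) (ρ g) := by
    intro g
    constructor
    · rintro ⟨h1, h2⟩
      exact ⟨h1, (bb_iff h r (hCN h1)).2 h2⟩
    · rintro ⟨h1, h2⟩
      exact ⟨h1, (bb_iff h r (hCN h1)).1 h2⟩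
  let D : Subgroup G :=
    { carrier := {g | g ∈ centralizer (V : Set G) ∧ ρ g ∈ X}
      one_mem' := ⟨one_mem _, by rw [r.one_ρ]; exact one_mem _⟩
      mul_mem' := by
        rintro a b ⟨ha, ha'⟩ ⟨hb, hb'⟩
        refine ⟨mul_mem ha hb, ?_⟩
        rw [r.mulρ a (hCN ha) b (hCN hb)]
        exact mul_mem ha' hb'
      inv_mem' := by
        rintro a ⟨ha, ha'⟩
        refine ⟨inv_mem ha, ?_⟩
        rw [r.inv_ρ (hCN ha)]
        exact inv_mem ha' }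
  have hD : ∀ g, g ∈ D ↔ g ∈ centralizer (V : Set G) ∧ ρ g ∈ X := fun g => Iff.rfl
  let C : Subgroup G :=
    { carrier := {u | u ∈ ws V Z ∧ ∀ d ∈ D, d * u * d⁻¹ * u⁻¹ ∈ Z}
      one_mem' := ⟨one_mem _, fun d _ => by simp⟩
      mul_mem' := by
        rintro a b ⟨ha, ha'⟩ ⟨hb, hb'⟩
        refine ⟨mul_mem ha hb, fun d hd => ?_⟩
        rw [← r.fix_iff (hCN hd.1) (mul_mem ha hb), r.mulπ a ha b hb, smul_mul',
          (r.fix_iff (hCN hd.1) ha).2 (ha' d hd), (r.fix_iff (hCN hd.1) hb).2 (hb' d hd)]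
      inv_mem' := by
        rintro a ⟨ha, ha'⟩
        refine ⟨inv_mem ha, fun d hd => ?_⟩
        rw [← r.fix_iff (hCN hd.1) (inv_mem ha), r.inv_π ha, smul_inv', (r.fix_iff (hCN hd.1) ha).2 (ha' d hd)] }
  have hker : ∀ g ∈ centralizer (V : Set G), ρ g = 1 ↔ g ∈ kx V Z := by
    intro g hg
    constructor
    · intro e
      exact mem_kx.2 ⟨fun z hz => (mem_centralizer_iff.1 hg z (h.pl.ZV hz)).symm, (r.kerρ g (hCN hg)).1 e⟩
    · exact fun e => r.ρ_one_of_kx e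
  have key := hNO Z V N D C hZ hV h.pl.ZV (fun g hg => hg.1) ?_ ?_ ?_ ?_ (fun u => Iff.rfl)
  · -- cardinalities
    have e1 : (kx V Z).relIndex D = Nat.card X := by
      let f : D →* X :=
        { toFun := fun d => ⟨ρ d, d.2.2⟩
          map_one' := Subtype.ext r.one_ρ
          map_mul' := fun a b => Subtype.ext (r.mulρ a (hCN a.2.1) b (hCN b.2.1)) }
      have hf : Function.Surjective f := by
        rintro ⟨x, hx⟩
        obtain ⟨t, ht, -, e⟩ := lift h r (hX x hx)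
        exact ⟨⟨t, ht, by rw [e]; exact hx⟩, Subtype.ext e⟩
      have hk : f.ker = (kx V Z).subgroupOf D := by
        ext d
        rw [MonoidHom.mem_ker, mem_subgroupOf, ← hker d d.2.1]
        exact Subtype.ext_iff
      rw [Subgroup.relIndex, ← hk, Subgroup.index_ker, MonoidHom.range_eq_top.2 hf]
      exact Nat.card_congr Subgroup.topEquiv.toEquiv
    have hZC : Z ≤ C := fun z hz => ⟨r.le hz, fun d hd => by
      rw [← mem_centralizer_iff.1 hd.1 z (h.pl.ZV hz), mul_inv_cancel_right, mul_inv_cancel]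
      exact one_mem _⟩
    have e2 : r.mp C = cv M (X : Set H) := by
      ext m
      constructor
      · intro hm
        obtain ⟨a, ha, ha', rfl⟩ := r.mem_mp.1 hm
        intro x hx
        obtain ⟨t, ht, -, rfl⟩ := lift h r (hX x hx)
        exact (r.fix_iff (hCN ht) ha').2 (ha.2 t ⟨ht, hx⟩)
      · intro hm
        obtain ⟨a, ha, rfl⟩ := r.surjπ m
        exact r.mp_mem ⟨ha, fun d hd => (r.fix_iff (hCN hd.1) ha).1 (hm _ hd.2)⟩ ha
    have e3 := r.card_mp hZC (fun u hu => hu.1)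
    rw [e1, ← e3, e2, ← r.card_M] at key
    refine Nat.le_of_mul_le_mul_right (c := Nat.card Z) ?_ Nat.card_pos
    unfold fo
    rw [mul_assoc]
    exact key
  · intro c hc
    have hcV : cj c V = V := cj_eq_iff.2 (centralizer_le_normalizer _ hc)
    have hcU : cj c (IV V Z) = IV V Z := cj_eq_iff.2 (normalizer_le_IV V Z (centralizer_le_normalizer _ hc))
    have h1 : ∀ c ∈ centralizer (V : Set G), ∀ g ∈ N, c * g * c⁻¹ ∈ N := by
      intro c hc g hg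
      obtain ⟨h1, h2⟩ := (hN g).1 hg
      have hcU : cj c (IV V Z) = IV V Z := cj_eq_iff.2 (normalizer_le_IV V Z (centralizer_le_normalizer _ hc))
      refine (hN _).2 ⟨mul_mem (mul_mem hc h1) (inv_mem hc), ?_⟩
      rw [r.mulρ _ (hCN (mul_mem hc h1)) _ (hCN (inv_mem hc)), r.mulρ _ (hCN hc) _ (hCN h1), r.inv_ρ (hCN hc)]
      have h3 := OneS.isBB_conj (ρ c) h2
      rwa [r.smul_mp (hCN hc), hcU] at h3
    rw [mem_normalizer_iff]
    intro g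
    refine ⟨h1 c hc g, fun hg => ?_⟩
    have h2 := h1 c⁻¹ (inv_mem hc) _ hg
    have e : c⁻¹ * (c * g * c⁻¹) * c⁻¹⁻¹ = g := by group
    rwa [e] at h2
  · intro g hg
    obtain ⟨h1, h2⟩ := (hN g).1 hg
    refine ⟨1, ?_⟩
    rw [← hker _ (pow_mem h1 _), r.pow_ρ (hCN h1), pow_one, pow_two]
    exact bb_sq h r h2
  · intro g hg
    exact (hN g).2 ⟨hg.1, hX _ hg.2⟩
  · intro g hg
    rw [← hker _ (mul_mem hg.1 hg.1), r.mulρ _ (hCN hg.1) _ (hCN hg.1)]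
    exact bb_sq h r (hX _ hg.2)

/-- **the frame** -/
theorem fr (hNO : NOg V Z) (hq : 4 ≤ Nat.card Z) : Fr H (r.mp V) (r.mp (IV V Z)) where
  sq := sq h r
  faith := r.faith
  le := (r.mp_le_iff (Z_le_IV h r) (V_le_ws h r)).2 h.pl.V_le_IV
  stab x hx := by
    obtain ⟨g, hg, rfl⟩ := r.surjρ x
    have h1 := (smul_eq_iff h r hg).1 hx
    rw [r.smul_mp hg, cj_eq_iff.2 (normalizer_le_IV V Z (cj_eq_iff.1 h1))]
  ti x hx := by
    obtain ⟨g, hg, rfl⟩ := r.surjρ x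
    obtain ⟨a, ha, ha', haZ⟩ := exists_of_inf h r hg h.pl.ZV hx
    rw [smul_eq_iff h r hg]
    by_contra hne
    exact haZ (lines_inf h h.pl.isCj_self ⟨g, rfl⟩ ⟨1, (cj_one V).symm⟩ (Z_le_cj h r hg h.pl.ZV) h.pl.ZV hne ha ha')
  coll x hx hx' v hv hv1 := by
    obtain ⟨g, hg, rfl⟩ := r.surjρ x
    obtain ⟨a, ha, ha', haZ⟩ := exists_of_inf h r hg (Z_le_IV h r) hx'
    have hne : cj g V ≠ V := fun e => hx ((smul_eq_iff h r hg).2 e)
    have hZg := Z_le_cj h r hg h.pl.ZV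
    obtain ⟨p, hp, q, hq', rfl⟩ := (mem_sup' (sq h r)).1 hv
    rw [r.smul_mp hg] at hp
    obtain ⟨y, hy, hy', rfl⟩ := r.mem_mp.1 hp
    obtain ⟨w, hw, hw', rfl⟩ := r.mem_mp.1 hq'
    obtain ⟨N, hN, hZN, hyw⟩ := coll_geo h ⟨g, rfl⟩ hZg hne ha ha' haZ hy hw
    obtain ⟨k, hk, rfl⟩ := exists_norm h hN hZN
    refine ⟨hv1, ρ k, ?_⟩
    rw [← r.mulπ y hy' w hw', mp_line_mem h r hk (mul_mem hy' hw')]
    exact hyw
  two b hb x hx v hv := by
    obtain ⟨g, hg, rfl⟩ := r.surjρ x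
    obtain ⟨t, ht, -, rfl⟩ := lift h r hb
    have htZ : t ∈ centralizer (Z : Set G) := centralizer_le h.pl.ZV ht
    have htN : t ∈ normalizer (Z : Set G) := centralizer_le_normalizer _ htZ
    have hZg := Z_le_cj h r hg h.pl.ZV
    obtain ⟨hb1, hb2⟩ := (bb_iff h r htN).1 hb
    have h1 : cj t (cj g V) = cj g V := by
      rw [r.smul_mp hg, r.smul_mp htN] at hx
      exact (r.mp_inj (Z_le_cj h r htN hZg) hZg (cj_le_ws h r htN (cj_le_ws h r hg (V_le_ws h r)))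
        (cj_le_ws h r hg (V_le_ws h r))).1 hx
    rw [r.smul_mp hg] at hv
    obtain ⟨w, hw, hw', rfl⟩ := r.mem_mp.1 hv
    rw [r.fix_iff htN hw']
    -- a fixed vector
    obtain ⟨Y, hY, hYL, hYZ⟩ := h.exists_second h.pl.isCj_self (L := cj g V) ⟨g, rfl⟩ hZg
    obtain ⟨y, hy, hy1⟩ := h.pt_ne_bot hY
    have hyZ : y ∉ Z := fun e => hy1 (h.pt_inf hY h.pl.isCj_self hYZ hy e)
    have hyW : y ∈ ws V Z := cj_le_ws h r hg (V_le_ws h r) (hYL hy)
    have h2 : t * y * t⁻¹ * y⁻¹ ∈ cj g V := by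
      refine mul_mem ?_ (inv_mem (hYL hy))
      have := conj_mem_cj (g := t) (hYL hy)
      rwa [h1] at this
    by_cases h3 : t * y * t⁻¹ * y⁻¹ ∈ Z
    · exact h.lin h.pl.isCj_self ⟨g, rfl⟩ hZg htZ (hYL hy) hyZ h3 w hw
    · exact h.lin h.pl.isCj_self ⟨g, rfl⟩ hZg htZ h2 h3 (hb1 _ (hb2 y hyW)) w hw
  no := no_of h r hNO
  four := by rw [card_lam h r]; exact hq

end InnG

end Cfsg.Agent.Omega.NO3S.MidB.No

end

section


/-!
# NO-3S, natural lines, critical distance 2: THEOREM INN, the frame `OneS.Inn` of an inner pair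
-/

set_option autoImplicit false
set_option linter.unusedSectionVars false

namespace Cfsg.Agent.Omega.NO3S.MidB.No

open Subgroup Cfsg.Agent.Omega.NO3S.PT Cfsg.Agent.Omega.NoFF.Basic Cfsg.Agent.ZN
open Cfsg.Agent.Omega.NO3S.MidQ (Adj Com Cr UU ws_of kx_of isCj_iff adj_iff com_iff cr_iff)
open Cfsg.Agent.Omega.NO3S.OneS (IsBB Fr Lam mem_sup' ne_bot_iff' TorAct br br_le)
open Cfsg.Agent.ClassTwoFusion.Quad (cv)
open Cfsg.Agent.Omega.NOThree.NoOver (fo)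
open scoped Pointwise

universe u

variable {G : Type u} [Group G]

namespace InnG

variable [Finite G] {S : Sylow 2 G} {P V Z : Subgroup G} (h : Mid S P V Z)

section

include h

theorem isCj_V : IsCj V V := ⟨1, (cj_one V).symm⟩

/-- an element of `⟨K_X : X ≤ V⟩` interchanges `z ∈ Z` and `x ∈ X` -/
theorem exists_swap {X : Subgroup G} (hX : IsCj Z X) (hXV : X ≤ V) (hXZ : X ≠ Z) {z x : G} (hz : z ∈ Z) (hz1 : z ≠ 1)
    (hx : x ∈ X) (hx1 : x ≠ 1) :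
    ∃ n ∈ XV V Z, n * z * n⁻¹ = x ∧ n * x * n⁻¹ = z ∧ cj n Z = X ∧ cj n X = Z := by
  have hZ := h.pl.isCj_self
  have hV := isCj_V h
  have hxZ : x ∉ Z := fun e => hx1 (h.pt_inf hX hZ hXZ hx e)
  have hzX : z ∉ X := fun e => hz1 (h.pt_inf hX hZ hXZ e hz)
  obtain ⟨a, ha, ha'⟩ := h.K_act hZ hV h.pl.ZV (hXV hx) hxZ hz
  obtain ⟨b, hb, hb'⟩ := h.K_act hX hV hXV (h.pl.ZV hz) hzX hx
  have haz : a * z * a⁻¹ = z := by rw [(mem_kx.1 ha).1 z hz, mul_inv_cancel_right]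
  have hbx : b * x * b⁻¹ = x := by rw [(mem_kx.1 hb).1 x hx, mul_inv_cancel_right]
  have hax : a * x * a⁻¹ = z * x := by rw [mul_inv_eq_iff_eq_mul] at ha'; exact ha'
  have hbz : b * z * b⁻¹ = x * z := by rw [mul_inv_eq_iff_eq_mul] at hb'; exact hb'
  have hzz : z * z = 1 := h.pt_sq hZ hz
  have hxx : x * x = 1 := h.pt_sq hX hx
  have hzx : z * x = x * z := h.pl.Vcomm (h.pl.ZV hz) (hXV hx)
  have e1 : (a * b * a) * z * (a * b * a)⁻¹ = x := by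
    calc (a * b * a) * z * (a * b * a)⁻¹ = a * (b * (a * z * a⁻¹) * b⁻¹) * a⁻¹ := by group
      _ = a * (x * z) * a⁻¹ := by rw [haz, hbz]
      _ = (a * x * a⁻¹) * (a * z * a⁻¹) := by group
      _ = x := by rw [hax, haz, hzx, mul_assoc, hzz, mul_one]
  have e2 : (a * b * a) * x * (a * b * a)⁻¹ = z := by
    calc (a * b * a) * x * (a * b * a)⁻¹ = a * (b * (a * x * a⁻¹) * b⁻¹) * a⁻¹ := by group
      _ = a * ((b * z * b⁻¹) * (b * x * b⁻¹)) * a⁻¹ := by rw [hax]; group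
      _ = a * z * a⁻¹ := by rw [hbz, hbx, ← hzx, mul_assoc z x x, hxx, mul_one]
      _ = z := haz
  refine ⟨a * b * a, mul_mem (mul_mem (le_XV hZ h.pl.ZV ha) (le_XV hX hXV hb)) (le_XV hZ h.pl.ZV ha), e1, e2, ?_, ?_⟩
  · refine h.pts_eq (hZ.cj _) hX (z := x) ?_ hx hx1
    rw [← e1]
    exact conj_mem_cj hz
  · refine h.pts_eq (hX.cj _) hZ (z := z) ?_ hz hz1
    rw [← e2]
    exact conj_mem_cj hx

end

variable {H M : Type*} [Group H] [CommGroup M] [MulDistribMulAction H M] {ρ : G → H} {π : G → M} (r : RN V Z ρ π)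
include h r

/-- the torus -/
theorem tor_act : TorAct H (r.mp V) (r.mp (IV V Z)) where
  tor m hm hm1 m' hm' hm'1 := by
    have hZ := h.pl.isCj_self
    have hV := isCj_V h
    obtain ⟨X, hX, hXV, hXZ⟩ := h.exists_second hZ hV h.pl.ZV
    have key : ∀ m ∈ r.mp V, m ≠ 1 → ∃ x ∈ X, x ≠ 1 ∧ π x = m := by
      intro m hm hm1
      obtain ⟨v, hv, hv', rfl⟩ := r.mem_mp.1 hm
      obtain ⟨z, hz, x, hx, rfl⟩ := h.line_eq hZ hX hXZ.symm hV h.pl.ZV hXV hv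
      have e : π (z * x) = π x := by
        rw [r.mulπ z (r.le hz) x (V_le_ws h r (hXV hx)), (r.kerπ z (r.le hz)).2 hz, one_mul]
      refine ⟨x, hx, fun e1 => hm1 ?_, e.symm⟩
      rw [e, e1, r.one_π]
    obtain ⟨x, hx, hx1, rfl⟩ := key m hm hm1
    obtain ⟨x', hx', hx'1, rfl⟩ := key m' hm' hm'1
    obtain ⟨z, hz, hz1⟩ := h.pt_ne_bot hZ
    obtain ⟨n, hn, hnz, hnx, hnZ, hnX⟩ := exists_swap h hX hXV hXZ hz hz1 hx hx1
    obtain ⟨n', hn', hnz', hnx', hnZ', hnX'⟩ := exists_swap h hX hXV hXZ hz hz1 hx' hx'1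
    have htX : n' * n ∈ XV V Z := mul_mem hn' hn
    have htN : n' * n ∈ normalizer (Z : Set G) := by
      rw [← cj_eq_iff, ← cj_cj, hnZ, hnX']
    have e : (n' * n) * x * (n' * n)⁻¹ = x' := by
      calc (n' * n) * x * (n' * n)⁻¹ = n' * (n * x * n⁻¹) * n'⁻¹ := by group
        _ = x' := by rw [hnx, hnz']
    refine ⟨ρ (n' * n), ?_, ?_, ?_⟩
    · rw [smul_eq_iff h r htN]
      exact cj_eq_iff.2 (h.pl.XV_le_N htX)
    · intro u hu
      obtain ⟨w, hw, hw', rfl⟩ := r.mem_mp.1 hu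
      rw [r.π_comm htN hw' (sq h r)]
      exact r.mp_mem (h.pl.XV_act htX hw) (mul_mem (r.conj_ws htN hw') (inv_mem hw'))
    · rw [← r.act _ htN x (V_le_ws h r (hXV hx)), e]
  act u hu hu' := by
    obtain ⟨w, hw, hw', rfl⟩ := r.mem_mp.1 hu
    have hwV : w ∉ V := fun e => hu' (r.mp_mem e hw')
    obtain ⟨v, hv, hvZ⟩ := h.pl.exists_out
    obtain ⟨c, hc, hcV, hcw⟩ := h.pl.F2 h.hf h.hO hw hwV hv
    have hcN : c ∈ normalizer (Z : Set G) := centralizer_le_normalizer _ (centralizer_le h.pl.ZV hcV)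
    refine ⟨ρ c, fun m hm => ?_, fun m hm => ?_, fun e => hvZ ?_⟩
    · obtain ⟨a, ha, ha', rfl⟩ := r.mem_mp.1 hm
      rw [← r.act c hcN a ha', ← mem_centralizer_iff.1 hcV a ha, mul_inv_cancel_right]
    · obtain ⟨a, ha, ha', rfl⟩ := r.mem_mp.1 hm
      rw [r.π_comm hcN ha' (sq h r)]
      exact r.mp_mem (h.pl.XV_act hc ha) (mul_mem (r.conj_ws hcN ha') (inv_mem ha'))
    · rw [← hcw]
      exact (r.fix_iff hcN hw').1 e

/-- (SYM) -/
theorem sym_of (x : H) (hx : x • r.mp V ≠ r.mp V) (hx' : x • r.mp V ⊓ r.mp (IV V Z) ≠ ⊥) :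
    r.mp V ≤ x • r.mp (IV V Z) := by
  obtain ⟨g, hg, rfl⟩ := r.surjρ x
  obtain ⟨a, ha, ha', haZ⟩ := exists_of_inf h r hg (Z_le_IV h r) hx'
  have hne : cj g V ≠ V := fun e => hx ((smul_eq_iff h r hg).2 e)
  have hZg := Z_le_cj h r hg h.pl.ZV
  rw [r.smul_mp hg, cj_IV h hg, r.mp_le_iff (hZg.trans (line_le_IV h ⟨g, rfl⟩ hZg)) (V_le_ws h r)]
  exact sym_geo h ⟨g, rfl⟩ hZg hne ha ha' haZ

/-- a 2-group acting on a 2-group -/
theorem fix_exists {N : Subgroup H} (hN : IsPGroup 2 N) (hlam : ∀ n ∈ N, n • r.mp V = r.mp V) :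
    ∃ z ∈ r.mp V, z ≠ 1 ∧ ∀ n ∈ N, n • z = z := by
  have : Fact (Nat.Prime 2) := ⟨Nat.prime_two⟩
  have := r.finite_M
  have := r.finite_H
  have hmem : ∀ n ∈ N, ∀ m ∈ r.mp V, n • m ∈ r.mp V := by
    intro n hn m hm
    have := smul_mem_pointwise_smul m n _ hm
    rwa [hlam n hn] at this
  let _ : MulAction N (r.mp V) :=
    { smul := fun s d => ⟨(s : H) • (d : M), hmem s s.2 d d.2⟩
      one_smul := fun d => Subtype.ext (one_smul H (d : M))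
      mul_smul := fun s t d => Subtype.ext (mul_smul (s : H) (t : H) (d : M)) }
  have h2 : 2 ∣ Nat.card (r.mp V) := by
    rw [card_lam h r]
    obtain ⟨n, hn⟩ := IsPGroup.iff_card.1 ((h.isPGroup_ws h.pl.isCj_self).to_le r.le)
    rw [hn]
    have h3 := h.pl.one_lt_card
    rw [hn] at h3
    have : n ≠ 0 := by
      rintro rfl
      rw [pow_zero] at h3
      exact lt_irrefl _ h3
    exact dvd_pow_self 2 this
  obtain ⟨d, hd, hd1⟩ := hN.exists_fixed_point_of_prime_dvd_card_of_fixed_point (r.mp V) h2 (a := 1) (by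
    intro s
    exact Subtype.ext (smul_one (s : H)))
  refine ⟨d, d.2, fun e => hd1 (Subtype.ext e.symm), fun n hn => ?_⟩
  have h3 : (⟨n, hn⟩ : N) • d = d := hd _
  exact congrArg Subtype.val h3

/-- `O₂(H) = 1` -/
theorem o2_bot (N : Subgroup H) [hNn : N.Normal] (hN : IsPGroup 2 N) : N = ⊥ := by
  have : Fact (Nat.Prime 2) := ⟨Nat.prime_two⟩
  have := r.finite_M
  have := r.finite_H
  have h1 : N ≤ ((S.subtype h.pl.SN).mapSurjective r.rh_surj : Sylow 2 H) := hN.le_sylow_of_normal _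
  have h2 : ∀ n ∈ N, n • r.mp V = r.mp V := by
    intro n hn
    obtain ⟨s, hs, e⟩ := h1 hn
    have hs' : (s : G) ∈ (S : Subgroup G) := mem_subgroupOf.1 hs
    have e' : ρ (s : G) = n := e
    rw [← e', smul_eq_iff h r s.2]
    exact cj_eq_iff.2 (h.pl.PN (h.pl.SP hs'))
  obtain ⟨z, hz, hz1, hfix⟩ := fix_exists h r hN h2
  -- conjugates
  have h3 : ∀ (x : H) (m : M), (∀ n ∈ N, n • m = m) → ∀ n ∈ N, n • x • m = x • m := by
    intro x m hm n hn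
    have h4 := hm _ (hNn.conj_mem n hn x⁻¹)
    rw [inv_inv, mul_smul, mul_smul] at h4
    rwa [inv_smul_eq_iff] at h4
  have h4 : ∀ z' ∈ r.mp V, ∀ n ∈ N, n • z' = z' := by
    intro z' hz' n hn
    by_cases h5 : z' = 1
    · rw [h5, smul_one]
    obtain ⟨t, -, -, rfl⟩ := (tor_act h r).tor z hz hz1 z' hz' h5
    exact h3 t z hfix n hn
  rw [eq_bot_iff]
  intro n hn
  rw [mem_bot]
  apply r.faith
  intro m
  obtain ⟨w, hw, rfl⟩ := r.surjπ m
  let E : Subgroup G :=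
    { carrier := {w | w ∈ ws V Z ∧ n • π w = π w}
      one_mem' := ⟨one_mem _, by rw [r.one_π, smul_one]⟩
      mul_mem' := by
        rintro a b ⟨ha, ha'⟩ ⟨hb, hb'⟩
        exact ⟨mul_mem ha hb, by rw [r.mulπ a ha b hb, smul_mul', ha', hb']⟩
      inv_mem' := by
        rintro a ⟨ha, ha'⟩
        exact ⟨inv_mem ha, by rw [r.inv_π ha, smul_inv', ha']⟩ }
  have hE : ws V Z ≤ E := by
    refine ws_le fun L hL hZL w hw => ⟨le_ws hL hZL hw, ?_⟩
    obtain ⟨g, hg, rfl⟩ := exists_norm h hL hZL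
    have h5 : π w ∈ ρ g • r.mp V := (mp_line_mem h r hg (le_ws hL hZL hw)).2 hw
    obtain ⟨m, hm, e⟩ := h5
    change ρ g • m = π w at e
    rw [← e]
    exact h3 _ _ (h4 m hm) n hn
  exact (hE hw).2

/-- Baer–Suzuki -/
theorem bs_of (f : H) (hf : f * f = 1) (hf1 : f ≠ 1) : ∃ x : H, x ≠ 1 ∧ Odd (orderOf x) ∧ f * x * f = x⁻¹ := by
  have := r.finite_H
  obtain ⟨x, hx1, hodd, hinv⟩ := Cfsg.Agent.Involutions.BaerSuzuki.exists_odd_inverted f hf (by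
    intro h1
    have h2 := o2_bot h r _ h1
    have h3 : f ∈ (normalClosure {f} : Subgroup H) := subset_normalClosure (Set.mem_singleton f)
    rw [h2, mem_bot] at h3
    exact hf1 h3)
  refine ⟨x, hx1, hodd, ?_⟩
  rw [inv_eq_of_mul_eq_one_left hf] at hinv
  exact hinv

/-! ### The inner pair -/

section

variable {R B L : Subgroup G} (hL : IsCj V L) (hZL : Z ≤ L) (hRL : R ≤ L) (hI : Inn V Z Z R B)
include hL hZL hRL hI

omit r hZL hRL hL in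
theorem ws_le_cent_Z : ws V B ≤ centralizer (Z : Set G) := h.ws_le_cent hI.cr.r.symm hI.cr.l.symm

omit r hZL hRL hL in
theorem ws_le_norm_Z : ws V B ≤ normalizer (Z : Set G) := (ws_le_cent_Z h hI).trans (centralizer_le_normalizer _)

omit r hZL hRL hL in
theorem comm_mem_K {a b : G} (ha : a ∈ ws V B) (hb : b ∈ ws V Z) :
    a * b * a⁻¹ * b⁻¹ ∈ ws V B ⊓ ws V R ⊓ ws V Z := by
  have h1 := h.comm_mem hI.cr.symm ha hb
  refine ⟨⟨h1.1, ?_⟩, h1.2⟩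
  have h2 := inv_mem (hI.le b hb a ha)
  have e : (b * a * b⁻¹ * a⁻¹)⁻¹ = a * b * a⁻¹ * b⁻¹ := by group
  rwa [e] at h2

theorem hA_gen : ∀ a ∈ r.mr (ws V B), IsBB (r.mp (IV L Z)) a := by
  intro a ha
  obtain ⟨w, hw, hw', rfl⟩ := r.mem_mr.1 ha
  have hRZ : R ≠ Z := hI.cr.l.ne.symm
  have e := IV_eq h hL hZL hI.cr.l.right hRL hRZ
  rw [r.isBB_iff hw' (hZL.trans (line_le_IV h hL hZL)) (by rw [e]; exact inf_le_left) (sq h r)]
  rw [e]
  refine ⟨fun u hu => ?_, fun u hu => ?_⟩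
  · have h1 := mem_centralizer_iff.1 (h.com B R hI.cr.r.symm hw) u hu.2
    rw [← h1, mul_inv_cancel_right, mul_inv_cancel]
    exact one_mem _
  · have h1 := comm_mem_K h hI hw hu
    exact ⟨h1.2, h1.1.2⟩

theorem br_sup_le : (br (r.mr (ws V B)) ⊔ r.mp L : Subgroup M) ≤ r.mp (ws V B ⊓ ws V R ⊓ ws V Z) := by
  refine sup_le (br_le fun a ha m => ?_) ?_
  · obtain ⟨w, hw, hw', rfl⟩ := r.mem_mr.1 ha
    obtain ⟨b, hb, rfl⟩ := r.surjπ m
    rw [r.π_comm hw' hb (sq h r)]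
    exact r.mp_mem (comm_mem_K h hI hw hb) (comm_mem_K h hI hw hb).2
  · intro m hm
    obtain ⟨l, hl, hl', rfl⟩ := r.mem_mp.1 hm
    obtain ⟨z, hz, x, hx, rfl⟩ := h.line_eq h.pl.isCj_self hI.cr.l.right hI.cr.l.ne hL hZL hRL hl
    have hxW : x ∈ ws V Z := (hRL.trans (le_ws hL hZL)) hx
    have e : π (z * x) = π x := by
      rw [r.mulπ z (r.le hz) x hxW, (r.kerπ z (r.le hz)).2 hz, one_mul]
    rw [e]
    exact r.mp_mem ⟨⟨h.adj_le_ws hI.cr.r.symm hx, h.pt_le_ws hI.cr.l.right hx⟩, hxW⟩ hxW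

omit r in
/-- a point `E` with an element in `W_B ∩ W_R ∩ W_Z` is collinear with `R` and `B` -/
theorem adj_of {N E : Subgroup G} (hN : IsCj V N) (hZN : Z ≤ N) (hE : IsCj Z E) (hEN : E ≤ N) {e : G} (he : e ∈ E)
    (heZ : e ∉ Z) (he' : e ∈ ws V B ⊓ ws V R ⊓ ws V Z) (hER : E ≠ R) : Adj V Z E R ∧ Adj V Z E B := by
  have hZ := h.pl.isCj_self
  have hEZ : E ≠ Z := fun e1 => heZ (e1 ▸ he)
  have he1 : e ≠ 1 := fun e1 => heZ (e1 ▸ one_mem _)
  have hc := hI.cr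
  have h1 : Adj V Z E R := by
    by_cases hNL : N = L
    · subst hNL
      exact ⟨hE, hc.l.right, hER, N, hN, hEN, hRL⟩
    · exact touch h hL hZ hc.l.right hZL hRL hc.l.ne hZ hc.l.right hZL hRL he'.2 he'.1.2
        (fun e1 => heZ (lines_inf h hZ hL hN hZL hZN (fun e2 => hNL e2.symm) e1 (hEN he))) he
        ⟨hE, hZ, hEZ, N, hN, hEN, hZN⟩
  refine ⟨h1, ?_⟩
  obtain ⟨M₀, hM₀, hRM, hBM⟩ := hc.r.line
  by_cases h2 : e ∈ M₀
  · obtain ⟨E', hE', hEM, heE⟩ := h.exists_point hM₀ h2 he1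
    have h3 : E' = E := h.pts_eq hE' hE heE he he1
    subst h3
    exact ⟨hE, hc.r.right, fun e1 => he1 (h.star' hc (e1 ▸ he) he'.2), M₀, hM₀, hEM, hBM⟩
  · exact touch h hM₀ hc.r.right hc.r.left hBM hRM hc.r.ne.symm hc.r.left hc.r.right hRM hBM he'.1.1 he'.1.2 h2 he h1

omit r in
theorem com_of {N E : Subgroup G} (hN : IsCj V N) (hZN : Z ≤ N) (hE : IsCj Z E) (hEN : E ≤ N) {e : G} (he : e ∈ E)
    (heZ : e ∉ Z) (he' : e ∈ ws V B ⊓ ws V R ⊓ ws V Z) : Com V B E := by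
  by_cases hER : E = R
  · rw [hER]
    exact h.com B R hI.cr.r.symm
  · exact h.com B E (adj_of h hL hZL hRL hI hN hZN hE hEN he heZ he' hER).2.symm

/-- (***) -/
theorem cen_gen (v : M) (hv : v ∈ br (r.mr (ws V B)) ⊔ r.mp L) (hv1 : v ≠ 1) (x : H) (hx : v ∈ x • r.mp V) :
    ∀ a ∈ r.mr (ws V B), ∀ u ∈ x • r.mp (IV V Z), a • u = u := by
  obtain ⟨g, hg, rfl⟩ := r.surjρ x
  obtain ⟨e, he, heW, rfl⟩ := r.mem_mp.1 (br_sup_le h r hL hZL hRL hI hv)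
  have heZ : e ∉ Z := fun e1 => hv1 ((r.kerπ e heW).2 e1)
  have heN : e ∈ cj g V := (mp_line_mem h r hg heW).1 hx
  have hZN := Z_le_cj h r hg h.pl.ZV
  obtain ⟨E, hE, hEN, heE⟩ := h.exists_point (L := cj g V) ⟨g, rfl⟩ heN (fun e1 => heZ (e1 ▸ one_mem _))
  have hcom : Com V B E := com_of h hL hZL hRL hI (N := cj g V) ⟨g, rfl⟩ hZN hE hEN heE heZ he
  intro a ha u hu
  obtain ⟨w, hw, hw', rfl⟩ := r.mem_mr.1 ha
  rw [r.smul_mp hg, cj_IV h hg] at hu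
  obtain ⟨b, hb, hb', rfl⟩ := r.mem_mp.1 hu
  have hbE : b ∈ ws V E := IV_le' h ⟨g, rfl⟩ hE hEN hb
  have h1 := mem_centralizer_iff.1 (hcom hw) b hbE
  rw [r.fix_iff hw' hb', ← h1, mul_inv_cancel_right, mul_inv_cancel]
  exact one_mem _

end

/-- **the frame of an inner pair** -/
theorem inn_base (hNO : NOg V Z) (hq : 4 ≤ Nat.card Z) {R B : Subgroup G} (hRV : R ≤ V) (hI : Inn V Z Z R B) :
    OneS.Inn H (r.mp V) (r.mp (IV V Z)) (r.mr (ws V B)) where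
  F := fr h r hNO hq
  sym := sym_of h r
  bs := bs_of h r
  hA := hA_gen h r (isCj_V h) h.pl.ZV hRV hI
  cen v hv hv1 x hx := cen_gen h r (isCj_V h) h.pl.ZV hRV hI v hv hv1 x hx

end InnG

end Cfsg.Agent.Omega.NO3S.MidB.No

end

section


/-!
# NO-3S, natural lines, critical distance 2: THEOREM INN, `JJ`, exactness

* `InnG.exists_jj` : (F2') : a 2-group `J` inducing all `u ↦ u + φ(u)` on `I_V / Z`;
* `InnG.fo_eq`, `InnG.hex` : `|A| |C_M(A)| = |M|` for `A = W_B` mod its kernel.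
-/

set_option autoImplicit false
set_option linter.unusedSectionVars false

namespace Cfsg.Agent.Omega.NO3S.MidB.No

open Subgroup Cfsg.Agent.Omega.NO3S.PT Cfsg.Agent.Omega.NoFF.Basic Cfsg.Agent.ZN
open Cfsg.Agent.Omega.NO3S.MidQ (Adj Com Cr UU ws_of kx_of isCj_iff adj_iff com_iff cr_iff)
open Cfsg.Agent.Omega.NO3S.OneS (IsBB Fr Lam mem_sup' ne_bot_iff' TorAct br br_le JJ)
open Cfsg.Agent.ClassTwoFusion.Quad (cv)
open Cfsg.Agent.Omega.NOThree.NoOver (fo)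
open scoped Pointwise

universe u

variable {G : Type u} [Group G]

/-- a Sylow 2-subgroup covers a 2-quotient -/
theorem exists_sylow_cover {H : Type*} [Group H] [Finite H] {J₀ K : Subgroup H}
    (hn : ∀ x ∈ J₀, ∀ k ∈ K, x * k * x⁻¹ ∈ K) (h2 : ∀ x ∈ J₀, x * x ∈ K) :
    ∃ J ≤ J₀, IsPGroup 2 J ∧ ∀ x ∈ J₀, ∃ j ∈ J, ∃ k ∈ K, x = j * k := by
  have : Fact (Nat.Prime 2) := ⟨Nat.prime_two⟩
  have hnorm : (K.subgroupOf J₀).Normal := ⟨fun k hk x => mem_subgroupOf.2 (hn x x.2 k (mem_subgroupOf.1 hk))⟩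
  let f : J₀ →* J₀ ⧸ K.subgroupOf J₀ := QuotientGroup.mk' _
  have hf : Function.Surjective f := QuotientGroup.mk'_surjective _
  have hq : IsPGroup 2 (J₀ ⧸ K.subgroupOf J₀) := by
    intro x
    obtain ⟨y, rfl⟩ := hf x
    refine ⟨1, ?_⟩
    rw [pow_one, pow_two, ← map_mul]
    exact (QuotientGroup.eq_one_iff _).2 (mem_subgroupOf.2 (h2 y y.2))
  obtain ⟨T⟩ : Nonempty (Sylow 2 J₀) := inferInstance
  have h3 : (⊤ : Subgroup (J₀ ⧸ K.subgroupOf J₀)) = (T.mapSurjective hf : Sylow 2 _) :=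
    (T.mapSurjective hf).is_maximal' (hq.to_subgroup ⊤) le_top
  refine ⟨(T : Subgroup J₀).map J₀.subtype, ?_, T.isPGroup'.map _, fun x hx => ?_⟩
  · rintro _ ⟨y, -, rfl⟩
    exact y.2
  · have h4 : f ⟨x, hx⟩ ∈ (T.mapSurjective hf : Subgroup _) := by
      rw [← h3]
      exact mem_top _
    obtain ⟨j, hj, e⟩ := h4
    refine ⟨j, ⟨j, hj, rfl⟩, (j : H)⁻¹ * x, ?_, by group⟩
    exact mem_subgroupOf.1 (QuotientGroup.eq.1 e)

theorem NOg.of {V Z L X : Subgroup G} (hL : IsCj V L) (hX : IsCj Z X) (hNO : NOg V Z) : NOg L X := by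
  intro Y N D E C hY hN hYN h1 h2 h3 h4 h5 h6
  rw [kx_of hL] at h3 h5 ⊢
  rw [ws_of hL] at h6 ⊢
  exact hNO Y N D E C ((isCj_iff hX).1 hY) ((isCj_iff hL).1 hN) hYN h1 h2 h3 h4 h5 h6

theorem Inn.of {V Z L X A R B : Subgroup G} (hL : IsCj V L) (hX : IsCj Z X) (hI : Inn V Z A R B) : Inn L X A R B := by
  refine ⟨(cr_iff hL hX).2 hI.cr, ?_⟩
  rw [ws_of hL, ws_of hL, ws_of hL]
  exact hI.le

theorem Inn.symm {V Z A R B : Subgroup G} (hI : Inn V Z A R B) : Inn V Z B R A := by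
  refine ⟨hI.cr.symm, fun b hb a ha => ?_⟩
  have h1 := inv_mem (hI.le a ha b hb)
  have e : (a * b * a⁻¹ * b⁻¹)⁻¹ = b * a * b⁻¹ * a⁻¹ := by group
  rwa [e] at h1

namespace InnG

variable [Finite G] {S : Sylow 2 G} {P V Z : Subgroup G} (h : Mid S P V Z)

section

include h

/-- `|I_L|` -/
theorem card_inf {X Y : Subgroup G} (hXY : Adj V Z X Y) :
    Nat.card (ws V X ⊓ ws V Y : Subgroup G) = Nat.card (IV V Z) := by
  obtain ⟨hX, hY, hne, L, hL, hXL, hYL⟩ := hXY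
  rw [PB.Geom.inf_eq h.pl h.hf hL hX hXL hY hYL hne]
  obtain ⟨g, rfl, rfl⟩ := h.exists_conj hX hL hXL
  rw [PB.Geom.IV_conj h.pl h.hf g, card_cj]

end

variable {H M : Type*} [Group H] [CommGroup M] [MulDistribMulAction H M] {ρ : G → H} {π : G → M} (r : RN V Z ρ π)

section

include h r

/-- **(F2')** -/
theorem exists_jj : ∃ J : Subgroup H, JJ J (r.mp V) (r.mp (IV V Z)) := by
  have := r.finite_H
  set J₀ : Subgroup H := r.mr (XV V Z ⊓ centralizer (V : Set G)) with hJ₀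
  have hCN : centralizer (V : Set G) ≤ normalizer (Z : Set G) :=
    (centralizer_le h.pl.ZV).trans (centralizer_le_normalizer _)
  have hlamU : r.mp V ≤ r.mp (IV V Z) := (r.mp_le_iff (Z_le_IV h r) (V_le_ws h r)).2 h.pl.V_le_IV
  have fx : ∀ k ∈ J₀, ∀ z ∈ r.mp V, k • z = z := by
    intro k hk m hm
    obtain ⟨c, hc, hcN, rfl⟩ := r.mem_mr.1 hk
    obtain ⟨a, ha, ha', rfl⟩ := r.mem_mp.1 hm
    rw [← r.act c hcN a ha', ← mem_centralizer_iff.1 hc.2 a ha, mul_inv_cancel_right]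
  have cl : ∀ k ∈ J₀, ∀ u ∈ r.mp (IV V Z), k • u * u ∈ r.mp V := by
    intro k hk m hm
    obtain ⟨c, hc, hcN, rfl⟩ := r.mem_mr.1 hk
    obtain ⟨a, ha, ha', rfl⟩ := r.mem_mp.1 hm
    rw [r.π_comm hcN ha' (sq h r)]
    exact r.mp_mem (h.pl.XV_act hc.1 ha) (mul_mem (r.conj_ws hcN ha') (inv_mem ha'))
  have on : ∀ u ∈ r.mp (IV V Z), u ∉ r.mp V → ∀ z ∈ r.mp V, ∃ k ∈ J₀, k • u = u * z := by
    intro u hu hu' z hz
    obtain ⟨w, hw, hw', rfl⟩ := r.mem_mp.1 hu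
    obtain ⟨v, hv, hv', rfl⟩ := r.mem_mp.1 hz
    have hwV : w ∉ V := fun e => hu' (r.mp_mem e hw')
    obtain ⟨c, hc, hcV, hcw⟩ := h.pl.F2 h.hf h.hO hw hwV hv
    refine ⟨ρ c, r.mr_mem ⟨hc, hcV⟩ (hCN hcV), ?_⟩
    have e : c * w * c⁻¹ = v * w := by rw [← hcw]; group
    rw [← r.act c (hCN hcV) w hw', e, r.mulπ v hv' w hw', mul_comm]
  let K : Subgroup H :=
    { carrier := {k | k ∈ J₀ ∧ ∀ u ∈ r.mp (IV V Z), k • u = u}
      one_mem' := ⟨one_mem _, fun u _ => one_smul _ _⟩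
      mul_mem' := by
        rintro a b ⟨ha, ha'⟩ ⟨hb, hb'⟩
        exact ⟨mul_mem ha hb, fun u hu => by rw [mul_smul, hb' u hu, ha' u hu]⟩
      inv_mem' := by
        rintro a ⟨ha, ha'⟩
        exact ⟨inv_mem ha, fun u hu => by rw [inv_smul_eq_iff, ha' u hu]⟩ }
  have hinv : ∀ x ∈ J₀, ∀ u ∈ r.mp (IV V Z), x • u ∈ r.mp (IV V Z) := by
    intro x hx u hu
    have e : x • u = (x • u * u) * u := by rw [mul_assoc, sq h r, mul_one]
    rw [e]
    exact mul_mem (hlamU (cl x hx u hu)) hu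
  obtain ⟨J, hJ, hJ2, hcov⟩ := exists_sylow_cover (J₀ := J₀) (K := K) (by
    rintro x hx k ⟨hk, hk'⟩
    refine ⟨mul_mem (mul_mem hx hk) (inv_mem hx), fun u hu => ?_⟩
    rw [mul_smul, mul_smul, hk' _ (hinv _ (inv_mem hx) u hu), smul_inv_smul]) (by
    intro x hx
    refine ⟨mul_mem hx hx, fun u hu => ?_⟩
    have h1 := fx x hx _ (cl x hx u hu)
    rw [smul_mul', ← mul_smul] at h1
    have h2 : (x * x) • u = (x • u * u) * x • u := by
      rw [← h1, mul_assoc, sq h r, mul_one]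
    rw [h2, mul_comm (x • u) u, mul_assoc, sq h r, mul_one])
  refine ⟨J, hJ2, fun k hk => fx k (hJ hk), fun k hk => cl k (hJ hk), fun u hu hu' z hz => ?_⟩
  obtain ⟨x, hx, e⟩ := on u hu hu' z hz
  obtain ⟨j, hj, k, hk, rfl⟩ := hcov x hx
  refine ⟨j, hj, ?_⟩
  rw [← e, mul_smul, hk.2 u hu]

/-- `|A| |C_M(A)| |C_{W_B}(W_Z)| |Z| = |W_B| |C_{W_Z}(W_B)|` -/
theorem fo_eq {R B : Subgroup G} (hc : Cr V Z Z R B) :
    fo M (r.mr (ws V B)) * (Nat.card (ws V B ⊓ centralizer ((ws V Z : Subgroup G) : Set G) : Subgroup G) *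
      Nat.card Z) =
    Nat.card (ws V B) * Nat.card (ws V Z ⊓ centralizer ((ws V B : Subgroup G) : Set G) : Subgroup G) := by
  have hBN : ws V B ≤ normalizer (Z : Set G) :=
    (h.ws_le_cent hc.r.symm hc.l.symm).trans (centralizer_le_normalizer _)
  -- `A`
  have e1 : Nat.card (r.mr (ws V B)) *
      Nat.card (ws V B ⊓ centralizer ((ws V Z : Subgroup G) : Set G) : Subgroup G) = Nat.card (ws V B) := by
    let f : ws V B →* H := r.rh.comp (inclusion hBN)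
    have h1 : f.range = r.mr (ws V B) := by
      ext x
      constructor
      · rintro ⟨w, rfl⟩
        exact r.mr_mem w.2 (hBN w.2)
      · intro hx
        obtain ⟨w, hw, hw', rfl⟩ := r.mem_mr.1 hx
        exact ⟨⟨w, hw⟩, rfl⟩
    have h2 := Subgroup.card_mul_index f.ker
    rw [Subgroup.index_ker, h1, mul_comm] at h2
    rw [← h2]
    congr 1
    have hk : ∀ w : ws V B, w ∈ f.ker ↔ (w : G) ∈ centralizer ((ws V Z : Subgroup G) : Set G) := by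
      intro w
      rw [MonoidHom.mem_ker]
      constructor
      · intro e
        have h3 := (r.kerρ w (hBN w.2)).1 e
        rw [mem_centralizer_iff]
        exact fun x hx => (h.cent_of_mod hc w.2 h3 x hx).symm
      · intro e
        refine (r.kerρ w (hBN w.2)).2 fun x hx => ?_
        rw [← mem_centralizer_iff.1 e x hx, mul_inv_cancel_right, mul_inv_cancel]
        exact one_mem _
    exact Nat.card_congr ⟨fun x => ⟨⟨x, x.2.1⟩, (hk _).2 x.2.2⟩, fun x => ⟨(x : ws V B), (x : ws V B).2,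
      (hk _).1 x.2⟩, fun x => rfl, fun x => rfl⟩
  have e2 : Nat.card (cv M ((r.mr (ws V B) : Subgroup H) : Set H)) * Nat.card Z =
      Nat.card (ws V Z ⊓ centralizer ((ws V B : Subgroup G) : Set G) : Subgroup G) := by
    have hZK : Z ≤ ws V Z ⊓ centralizer ((ws V B : Subgroup G) : Set G) := by
      refine le_inf r.le ?_
      exact comm_symm (h.ws_le_cent hc.r.symm hc.l.symm)
    rw [← r.card_mp hZK inf_le_left]
    suffices e3 : cv M ((r.mr (ws V B) : Subgroup H) : Set H) =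
        r.mp (ws V Z ⊓ centralizer ((ws V B : Subgroup G) : Set G)) by rw [e3]
    ext m
    constructor
    · intro hm
      obtain ⟨x, hx, rfl⟩ := r.surjπ m
      have h3 : x ∈ centralizer ((ws V B : Subgroup G) : Set G) := by
        rw [mem_centralizer_iff]
        refine h.cent_of_mod' hc hx fun w hw => ?_
        exact (r.fix_iff (hBN hw) hx).1 (hm _ (r.mr_mem hw (hBN hw)))
      exact r.mp_mem ⟨hx, h3⟩ hx
    · intro hm
      obtain ⟨x, hx, hx', rfl⟩ := r.mem_mp.1 hm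
      intro a ha
      obtain ⟨w, hw, hw', rfl⟩ := r.mem_mr.1 ha
      have h3 := mem_centralizer_iff.1 hx.2 w hw
      rw [r.fix_iff hw' hx', h3, mul_inv_cancel_right, mul_inv_cancel]
      exact one_mem _
  unfold fo
  rw [← e1, ← e2]
  ring

/-- `|C_{W_Z}(W_B)| ≤ |C_{W_B}(W_Z)|` -/
theorem card_cent_le (hNO : NOg V Z) {R B : Subgroup G} (hRV : R ≤ V) (hI : Inn V Z Z R B) :
    Nat.card (ws V Z ⊓ centralizer ((ws V B : Subgroup G) : Set G) : Subgroup G) ≤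
      Nat.card (ws V B ⊓ centralizer ((ws V Z : Subgroup G) : Set G) : Subgroup G) := by
  have h1 := no_of h r hNO _ (hA_gen h r (isCj_V h) h.pl.ZV hRV hI)
  have h2 := fo_eq h r hI.cr
  have h3 : Nat.card (ws V B) = Nat.card (ws V Z) := by
    obtain ⟨g, hg⟩ := hI.cr.r.right
    rw [hg, ws_cj, card_cj]
  rw [h3, ← r.card_M] at h2
  have h4 : Nat.card M * Nat.card Z *
      Nat.card (ws V Z ⊓ centralizer ((ws V B : Subgroup G) : Set G) : Subgroup G) ≤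
      Nat.card M * Nat.card Z *
        Nat.card (ws V B ⊓ centralizer ((ws V Z : Subgroup G) : Set G) : Subgroup G) := by
    rw [← h2]
    calc _ ≤ Nat.card M * (Nat.card (ws V B ⊓ centralizer ((ws V Z : Subgroup G) : Set G) : Subgroup G) *
          Nat.card Z) := Nat.mul_le_mul_right _ h1
      _ = _ := by ring
  have := r.finite_M
  exact Nat.le_of_mul_le_mul_left h4 (Nat.mul_pos Nat.card_pos Nat.card_pos)

end

section

include h

/-- the same, `Z` any point -/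
theorem card_cent_le' (hNO : NOg V Z) {X R B : Subgroup G} (hI : Inn V Z X R B) :
    Nat.card (ws V X ⊓ centralizer ((ws V B : Subgroup G) : Set G) : Subgroup G) ≤
      Nat.card (ws V B ⊓ centralizer ((ws V X : Subgroup G) : Set G) : Subgroup G) := by
  obtain ⟨hX, hR, hne, L, hL, hXL, hRL⟩ := hI.cr.l
  obtain ⟨T, Q, h'⟩ := h.flag hX hL hXL
  obtain ⟨H, M, i1, i2, i3, ρ, π, r⟩ := exists_rn (h'.pt_le_ws h'.pl.isCj_self) (h'.com_self h'.pl.isCj_self)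
  have h1 := card_cent_le h' r (hNO.of hL hX) hRL (hI.of hL hX)
  rwa [ws_of hL, ws_of hL] at h1

end

include h r

/-- **exactness** -/
theorem hex (hNO : NOg V Z) {R B : Subgroup G} (hI : Inn V Z Z R B) : fo M (r.mr (ws V B)) = Nat.card M := by
  have h1 := fo_eq h r hI.cr
  have h2 := le_antisymm (card_cent_le' h hNO hI) (card_cent_le' h hNO hI.symm)
  have h3 : Nat.card (ws V B) = Nat.card (ws V Z) := by
    obtain ⟨g, hg⟩ := hI.cr.r.right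
    rw [hg, ws_cj, card_cj]
  rw [h2, h3, ← r.card_M] at h1
  have := r.finite_M
  have h4 : 0 < Nat.card (ws V B ⊓ centralizer ((ws V Z : Subgroup G) : Set G) : Subgroup G) * Nat.card Z :=
    Nat.mul_pos Nat.card_pos Nat.card_pos
  refine Nat.eq_of_mul_eq_mul_right h4 ?_
  rw [h1]
  ring

end InnG

end Cfsg.Agent.Omega.NO3S.MidB.No

end

section


/-!
# NO-3S, natural lines, critical distance 2: **THEOREM INN** (49's `OneS`), geometric form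

`innN_of : Mid S P V Z → 4 ≤ |Z| → NOg V Z → InnN V Z`.
-/

set_option autoImplicit false
set_option linter.unusedSectionVars false

namespace Cfsg.Agent.Omega.NO3S.MidB.No

open Subgroup Cfsg.Agent.Omega.NO3S.PT Cfsg.Agent.Omega.NoFF.Basic Cfsg.Agent.ZN
open Cfsg.Agent.Omega.NO3S.MidQ (Adj Com Cr UU ws_of kx_of isCj_iff adj_iff com_iff cr_iff)
open Cfsg.Agent.Omega.NO3S.OneS (IsBB Fr Lam mem_sup' ne_bot_iff' TorAct br br_le JJ Fatt)
open Cfsg.Agent.ClassTwoFusion.Quad (cv)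
open Cfsg.Agent.Omega.NOThree.NoOver (fo)
open scoped Pointwise

universe u

variable {G : Type u} [Group G]

namespace InnG

variable [Finite G] {S : Sylow 2 G} {P V Z : Subgroup G} (h : Mid S P V Z)

section

variable {H M : Type*} [Group H] [CommGroup M] [MulDistribMulAction H M] {ρ : G → H} {π : G → M} (r : RN V Z ρ π)
include h r

/-- `π [W_B, W_Z] ≤ [M, A]` -/
theorem mem_br_of {R B : Subgroup G} (hI : Inn V Z Z R B) {e : G} (he : e ∈ ⁅ws V B, ws V Z⁆) :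
    π e ∈ br (r.mr (ws V B)) := by
  let E : Subgroup G :=
    { carrier := {w | w ∈ ws V Z ∧ π w ∈ br (r.mr (ws V B))}
      one_mem' := ⟨one_mem _, by rw [r.one_π]; exact one_mem _⟩
      mul_mem' := by
        rintro a b ⟨ha, ha'⟩ ⟨hb, hb'⟩
        exact ⟨mul_mem ha hb, by rw [r.mulπ a ha b hb]; exact mul_mem ha' hb'⟩
      inv_mem' := by
        rintro a ⟨ha, ha'⟩
        exact ⟨inv_mem ha, by rw [r.inv_π ha]; exact inv_mem ha'⟩ }
  have h1 : ⁅ws V B, ws V Z⁆ ≤ E := by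
    rw [commutator_le]
    intro b hb z hz
    have hbN := ws_le_norm_Z h hI hb
    refine ⟨mul_mem (r.conj_ws hbN hz) (inv_mem hz), ?_⟩
    have h2 := OneS.mem_br (r.mr_mem hb hbN) (π z)
    rwa [r.π_comm hbN hz (sq h r)] at h2
  exact (h1 he).2

/-- `[M, A] ≤ π [W_B, W_Z]` -/
theorem exists_of_mem_br {R B : Subgroup G} (hI : Inn V Z Z R B) {m : M} (hm : m ∈ br (r.mr (ws V B))) :
    ∃ e ∈ ⁅ws V B, ws V Z⁆, e ∈ ws V Z ∧ π e = m := by
  have h1 : (br (r.mr (ws V B)) : Subgroup M) ≤ r.mp ⁅ws V B, ws V Z⁆ := by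
    refine br_le fun a ha m => ?_
    obtain ⟨w, hw, hw', rfl⟩ := r.mem_mr.1 ha
    obtain ⟨b, hb, rfl⟩ := r.surjπ m
    rw [r.π_comm hw' hb (sq h r)]
    exact r.mp_mem (commutator_mem_commutator hw hb) (comm_mem_K h hI hw hb).2
  exact r.mem_mp.1 (h1 hm)

end

section

include h

/-- a point with an element in `[W_B, W_Z]` has the same `I_L` -/
theorem flag_mid (hNO : NOg V Z) (hq : 4 ≤ Nat.card Z) {R E B : Subgroup G} (hRV : R ≤ V) (hI : Inn V Z Z R B)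
    (hE : Adj V Z Z E) {e : G} (he : e ∈ E) (heZ : e ∉ Z) (he' : e ∈ ⁅ws V B, ws V Z⁆) :
    ws V Z ⊓ ws V E = ws V Z ⊓ ws V R := by
  have hZ := h.pl.isCj_self
  obtain ⟨H, M, i1, i2, i3, ρ, π, r⟩ := exists_rn (h.pt_le_ws hZ) (h.com_self hZ)
  have := r.finite_M
  have := r.finite_H
  obtain ⟨N, hN, hZN, hEN⟩ := hE.line
  obtain ⟨g, hg, rfl⟩ := exists_norm h hN hZN
  have e1 : IV V Z = ws V Z ⊓ ws V R := IV_eq h (isCj_V h) h.pl.ZV hI.cr.l.right hRV hI.cr.l.ne.symm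
  have e2 : IV (cj g V) Z = ws V Z ⊓ ws V E := IV_eq h hN hZN hE.right hEN hE.ne.symm
  have hA : r.mr (ws V B) ≠ ⊥ := by
    intro e
    apply hI.cr.symm.ne
    intro w hw
    have hw' := ws_le_norm_Z h hI hw
    have h1 : ρ w ∈ r.mr (ws V B) := r.mr_mem hw hw'
    rw [e, mem_bot] at h1
    rw [mem_centralizer_iff]
    exact fun x hx => (h.cent_of_mod hI.cr hw ((r.kerρ w hw').1 h1) x hx).symm
  have heW : e ∈ ws V Z := h.adj_le_ws hE he
  have h0 := mem_br_of h r hI he'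
  have h1 := (inn_base h r hNO hq hRV hI).flag_eq hA (hex h r hNO hI) h0
    (fun e1 => heZ ((r.kerπ e heW).1 e1)) ((mp_line_mem h r hg heW).2 (hEN he))
  have hZI := Z_le_IV h r
  rw [r.smul_mp hg, r.mp_inj (Z_le_cj h r hg hZI) hZI (cj_le_ws h r hg h.pl.IV_le_ws) h.pl.IV_le_ws, cj_IV h hg,
    e1, e2] at h1
  exact h1

/-- the same at any point -/
theorem flag_mid' (hNO : NOg V Z) (hq : 4 ≤ Nat.card Z) {X R E B : Subgroup G} (hI : Inn V Z X R B)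
    (hE : Adj V Z X E) {e : G} (he : e ∈ E) (heX : e ∉ X) (he' : e ∈ ⁅ws V B, ws V X⁆) :
    ws V X ⊓ ws V E = ws V X ⊓ ws V R := by
  obtain ⟨hX, hR, hne, L, hL, hXL, hRL⟩ := hI.cr.l
  obtain ⟨T, Q, h'⟩ := h.flag hX hL hXL
  have hq' : 4 ≤ Nat.card X := by
    rw [h.pl.card_pt hX]
    exact hq
  have h1 := flag_mid h' (hNO.of hL hX) hq' hRL (hI.of hL hX) ((adj_iff hL hX).2 hE) he heX (by
    rw [ws_of hL, ws_of hL]
    exact he')
  rwa [ws_of hL, ws_of hL, ws_of hL] at h1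

end

variable {H M : Type*} [Group H] [CommGroup M] [MulDistribMulAction H M] {ρ : G → H} {π : G → M} (r : RN V Z ρ π)
include h r

/-- (T) -/
theorem fatt (hNO : NOg V Z) (hq : 4 ≤ Nat.card Z) {R B : Subgroup G} (hRV : R ≤ V) (hI : Inn V Z Z R B) :
    Fatt (r.mp V) (r.mp (IV V Z)) (r.mr (ws V B)) := by
  intro x hx v hv hv1 hvx
  obtain ⟨g, hg, rfl⟩ := r.surjρ x
  rw [smul_eq_iff h r hg]
  by_contra hne
  have hZ := h.pl.isCj_self
  have hZI := Z_le_IV h r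
  have hZN := Z_le_cj h r hg h.pl.ZV
  have hN : IsCj V (cj g V) := ⟨g, rfl⟩
  rw [r.smul_mp hg, r.mp_inj (Z_le_cj h r hg hZI) hZI (cj_le_ws h r hg h.pl.IV_le_ws) h.pl.IV_le_ws, cj_IV h hg] at hx
  obtain ⟨e, hec, heW, rfl⟩ := exists_of_mem_br h r hI hv
  have he : e ∈ ws V B ⊓ ws V R ⊓ ws V Z := by
    have h1 : ⁅ws V B, ws V Z⁆ ≤ ws V B ⊓ ws V R ⊓ ws V Z := by
      rw [commutator_le]
      exact fun b hb z hz => comm_mem_K h hI hb hz
    exact h1 hec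
  have heZ : e ∉ Z := fun e1 => hv1 ((r.kerπ e heW).2 e1)
  have heN : e ∈ cj g V := (mp_line_mem h r hg heW).1 hvx
  obtain ⟨E, hE, hEN, heE⟩ := h.exists_point hN heN (fun e1 => heZ (e1 ▸ one_mem _))
  have hEZ : E ≠ Z := fun e1 => heZ (e1 ▸ heE)
  have hER : E ≠ R := by
    rintro rfl
    exact hne (h.line_unique hZ hE hEZ.symm hN (isCj_V h) hZN hEN h.pl.ZV hRV)
  obtain ⟨h1, h2⟩ := adj_of h (isCj_V h) h.pl.ZV hRV hI hN hZN hE hEN heE heZ he hER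
  have e1 : IV V Z = ws V Z ⊓ ws V R := IV_eq h (isCj_V h) h.pl.ZV hI.cr.l.right hRV hI.cr.l.ne.symm
  have e2 : IV (cj g V) Z = ws V Z ⊓ ws V E := IV_eq h hN hZN hE hEN hEZ
  rw [e1, e2] at hx
  have h3 := flag_mid' h hNO hq hI.symm h2.symm heE
    (fun e1 => heZ (by rw [h.star' hI.cr e1 heW]; exact one_mem _)) (by rw [commutator_comm]; exact hec)
  -- the three `I_L`
  have h4 : ws V Z ⊓ ws V R = ws V E ⊓ ws V R := by
    refine eq_of_le_of_card_ge (le_inf (hx ▸ inf_le_right) inf_le_right) ?_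
    rw [card_inf h h1, card_inf h hI.cr.l]
  have h5 : ws V B ⊓ ws V R = ws V E ⊓ ws V R := by
    refine eq_of_le_of_card_ge (le_inf (h3 ▸ inf_le_right) inf_le_right) ?_
    rw [card_inf h h1, card_inf h hI.cr.r.symm]
  have h6 : B ≤ ws V Z := by
    have h7 : B ≤ ws V B ⊓ ws V R := le_inf (h.pt_le_ws hI.cr.r.right) (h.adj_le_ws hI.cr.r)
    rw [h5, ← h4] at h7
    exact h7.trans inf_le_left
  obtain ⟨b, hb, hb1⟩ := h.pt_ne_bot hI.cr.r.right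
  exact hb1 (h.star' hI.cr hb (h6 hb))

end InnG

variable [Finite G] {S : Sylow 2 G} {P V Z : Subgroup G}

/-- **THEOREM INN** at the base flag -/
theorem inn_base_of (h : Mid S P V Z) (hq : 4 ≤ Nat.card Z) (hNO : NOg V Z) {R B : Subgroup G} (hRV : R ≤ V)
    (hI : Inn V Z Z R B) : ∀ a ∈ ws V Z, ∀ b ∈ ws V B, a * b * a⁻¹ * b⁻¹ ∈ R := by
  have hZ := h.pl.isCj_self
  obtain ⟨H, M, i1, i2, i3, ρ, π, r⟩ := exists_rn (h.pt_le_ws hZ) (h.com_self hZ)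
  have := r.finite_M
  have := r.finite_H
  obtain ⟨J, hJ⟩ := InnG.exists_jj h r
  have h1 := (InnG.inn_base h r hNO hq hRV hI).br_le_lam hJ (InnG.fatt h r hNO hq hRV hI) (InnG.hex h r hNO hI)
  intro a ha b hb
  have hbN := InnG.ws_le_norm_Z h hI hb
  have hK := InnG.comm_mem_K h hI hb ha
  have e0 : a * b * a⁻¹ * b⁻¹ = (b * a * b⁻¹ * a⁻¹)⁻¹ := by group
  rw [e0]
  apply inv_mem
  set e := b * a * b⁻¹ * a⁻¹ with he
  have heV : e ∈ V := by
    have h2 := h1 (OneS.mem_br (r.mr_mem hb hbN) (π a))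
    rw [r.π_comm hbN ha (InnG.sq h r)] at h2
    exact (r.mp_mem_iff h.pl.ZV hK.2).1 h2
  by_cases he1 : e = 1
  · rw [he1]; exact one_mem _
  have heZ : e ∉ Z := fun e1 => he1 (h.star hI.cr e1 hK.1.1)
  obtain ⟨E, hE, hEV, heE⟩ := h.exists_point (InnG.isCj_V h) heV he1
  by_cases hER : E = R
  · rw [← hER]; exact heE
  exfalso
  obtain ⟨-, h3⟩ := InnG.adj_of h (InnG.isCj_V h) h.pl.ZV hRV hI (InnG.isCj_V h) h.pl.ZV hE hEV heE heZ hK hER
  have h4 : V ≤ ws V B := h.line_le_of hE hI.cr.l.right hER (InnG.isCj_V h) hEV hRV (h.adj_le_ws h3.symm)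
    (h.adj_le_ws hI.cr.r.symm)
  obtain ⟨z, hz, hz1⟩ := h.pt_ne_bot hZ
  exact hz1 (h.star hI.cr hz (h4 (h.pl.ZV hz)))

/-- **THEOREM INN** -/
theorem innN_of (h : Mid S P V Z) (hq : 4 ≤ Nat.card Z) (hNO : NOg V Z) : InnN V Z := by
  intro X R Y hI a ha b hb
  obtain ⟨hX, hR, hne, L, hL, hXL, hRL⟩ := hI.cr.l
  obtain ⟨T, Q, h'⟩ := h.flag hX hL hXL
  have hq' : 4 ≤ Nat.card X := by
    rw [h.pl.card_pt hX]
    exact hq
  refine inn_base_of h' hq' (hNO.of hL hX) hRL (hI.of hL hX) a ?_ b ?_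
  · rwa [ws_of hL]
  · rwa [ws_of hL]

end Cfsg.Agent.Omega.NO3S.MidB.No

end
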